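import Cfsg.Agent.Lib.ONanGeom.Plane
import Cfsg.Agent.Lib.Classical.Linear

/-!
The elations act as projective transvections, and the group they generate is `PSL`.
-/

set_option autoImplicit false
set_option linter.unusedSectionVars false

namespace Cfsg.Agent.ONanGeom

open scoped LinearAlgebra.Projectivization

universe uG uX

variable {G : Type uG} {X : Type uX} [Group G] [MulAction G X]

section chart

variable {F : Type} [Field F] {n : ℕ} (φ : X ≃ ℙ F (Fin n → F))

/-- The point with given coordinates. -/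
noncomputable def pt (v : Fin n → F) (hv : v ≠ 0) : X := φ.symm (Projectivization.mk F v hv)

theorem pt_eq_iff {u v : Fin n → F} (hu : u ≠ 0) (hv : v ≠ 0) :
    pt φ u hu = pt φ v hv ↔ ∃ a : F, a • v = u := by
  rw [pt, pt, φ.symm.injective.eq_iff, Projectivization.mk_eq_mk_iff']

theorem pt_congr {u v : Fin n → F} (h : u = v) (hu : u ≠ 0) (hv : v ≠ 0) :
    pt φ u hu = pt φ v hv := by subst h; rfl

theorem pt_surj (x : X) : ∃ (v : Fin n → F) (hv : v ≠ 0), pt φ v hv = x :=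
  ⟨(φ x).rep, Projectivization.rep_nonzero _, by
    rw [pt, Projectivization.mk_rep, Equiv.symm_apply_apply]⟩

theorem pt_ne {u v : Fin n → F} (hu : u ≠ 0) (hv : v ≠ 0) (h : v ∉ Submodule.span F {u}) :
    pt φ u hu ≠ pt φ v hv := fun e => by
  obtain ⟨a, ha⟩ := (pt_eq_iff φ hu hv).1 e
  exact h (Submodule.mem_span_singleton.2 ⟨a⁻¹, by
    rw [← ha, inv_smul_smul₀ (fun a0 : a = 0 => hu (by rw [← ha, a0, zero_smul]))]⟩)

/-- `g` acts as the transvection `v ↦ v + f v • c`. -/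
def Acts (g : G) (c : Fin n → F) (f : (Fin n → F) →ₗ[F] F) : Prop :=
  ∀ (v : Fin n → F) (hv : v ≠ 0),
    ∃ h' : v + f v • c ≠ 0, g • pt φ v hv = pt φ (v + f v • c) h'

/-- `φ` carries lines to lines. -/
def LineMap (D : Data G X) : Prop :=
  ∀ a b x : X, a ≠ b → (x ∈ D.ln a b ↔ (φ x).submodule ≤ (φ a).submodule ⊔ (φ b).submodule)

variable {φ} {D : Data G X}

theorem mem_ln_iff (hφ : LineMap φ D) {u v w : Fin n → F} (hu : u ≠ 0) (hv : v ≠ 0) (hw : w ≠ 0)
    (h : pt φ u hu ≠ pt φ v hv) :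
    pt φ w hw ∈ D.ln (pt φ u hu) (pt φ v hv) ↔ ∃ s t : F, s • u + t • v = w := by
  rw [hφ _ _ _ h]
  simp only [pt, Equiv.apply_symm_apply, Projectivization.submodule_mk,
    Submodule.span_singleton_le_iff_mem, Submodule.mem_sup, Submodule.mem_span_singleton]
  exact ⟨fun ⟨_, ⟨s, hs⟩, _, ⟨t, ht⟩, e⟩ => ⟨s, t, by rw [hs, ht, e]⟩,
    fun ⟨s, t, e⟩ => ⟨_, ⟨s, rfl⟩, _, ⟨t, rfl⟩, e⟩⟩

theorem add_ne_zero' {c : Fin n → F} {f : (Fin n → F) →ₗ[F] F} (hfc : f c = 0) {v : Fin n → F}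
    (hv : v ≠ 0) : v + f v • c ≠ 0 := fun h => hv (by
  have h1 := congrArg f h
  rw [map_add, map_smul, hfc, smul_zero, add_zero, map_zero] at h1
  rwa [h1, zero_smul, add_zero] at h)

theorem Acts.mul {g g' : G} {c : Fin n → F} {f f' : (Fin n → F) →ₗ[F] F} (hg : Acts φ g c f)
    (hg' : Acts φ g' c f') (hfc : f c = 0) : Acts φ (g * g') c (f + f') := by
  intro v hv
  obtain ⟨h1, e1⟩ := hg' v hv
  obtain ⟨h2, e2⟩ := hg _ h1
  have e : v + f' v • c + f (v + f' v • c) • c = v + (f + f') v • c := by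
    rw [map_add, map_smul, hfc, smul_zero, add_zero, LinearMap.add_apply, add_smul]; abel
  exact ⟨e ▸ h2, by rw [mul_smul, e1, e2]; exact pt_congr φ e _ _⟩

theorem exists_outside (hn : 3 ≤ n) (c v : Fin n → F) :
    ∃ w, w ∉ Submodule.span F ({c, v} : Set (Fin n → F)) := by
  classical
  by_contra hall
  push Not at hall
  have htop : Submodule.span F (({c, v} : Finset (Fin n → F)) : Set (Fin n → F)) = ⊤ := by
    simp only [Finset.coe_insert, Finset.coe_singleton]
    exact eq_top_iff.2 fun w _ => hall w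
  have h1 := finrank_span_finset_le_card (R := F) ({c, v} : Finset (Fin n → F))
  rw [Set.finrank] at h1
  rw [htop, finrank_top, Module.finrank_fin_fun] at h1
  have h2 := Finset.card_le_two (a := c) (b := v)
  omega

variable [FaithfulSMul G X]

/-- The linear hyperplane of a geometric one. -/
theorem exists_functional (hφ : LineMap φ D) {H : Set X} (hH : D.IsHyp H) :
    ∃ f : (Fin n → F) →ₗ[F] F, f ≠ 0 ∧ ∀ (v : Fin n → F) (hv : v ≠ 0), f v = 0 ↔ pt φ v hv ∈ H := by
  classical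
  let W : Submodule F (Fin n → F) :=
    { carrier := {v | ∀ hv : v ≠ 0, pt φ v hv ∈ H}
      zero_mem' := fun h => absurd rfl h
      add_mem' := fun {u v} hu hv huv => by
        by_cases hu0 : u = 0
        · exact pt_congr φ (by rw [hu0, zero_add]) huv (fun e => huv (by rw [hu0, e, add_zero])) ▸
            hv _
        by_cases hv0 : v = 0
        · exact pt_congr φ (by rw [hv0, add_zero]) huv hu0 ▸ hu hu0
        by_cases he : pt φ u hu0 = pt φ v hv0
        · obtain ⟨a, ha⟩ := (pt_eq_iff φ hu0 hv0).1 he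
          have : pt φ (u + v) huv = pt φ v hv0 :=
            (pt_eq_iff φ huv hv0).2 ⟨a + 1, by rw [add_smul, ha, one_smul]⟩
          exact this ▸ hv hv0
        · exact hH.sub _ (hu hu0) _ (hv hv0) he _
            ((mem_ln_iff hφ hu0 hv0 huv he).2 ⟨1, 1, by rw [one_smul, one_smul]⟩)
      smul_mem' := fun a v hv hav => by
        have hv0 : v ≠ 0 := fun e => hav (by rw [e, smul_zero])
        exact ((pt_eq_iff φ hav hv0).2 ⟨a, rfl⟩).symm ▸ hv hv0 }
  have hWmem : ∀ {v : Fin n → F} (hv : v ≠ 0), v ∈ W ↔ pt φ v hv ∈ H :=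
    fun hv => ⟨fun h => h hv, fun h _ => h⟩
  obtain ⟨P, hP⟩ := hH.proper
  obtain ⟨v₀, hv₀, rfl⟩ := pt_surj φ P
  have hlt : W < ⊤ := lt_top_iff_ne_top.2 fun e =>
    hP ((hWmem hv₀).1 (e ▸ Submodule.mem_top))
  obtain ⟨f, hf, hfW⟩ := Submodule.exists_dual_map_eq_bot_of_lt_top hlt inferInstance
  refine ⟨f, hf, fun v hv => ⟨fun hfv => by_contra fun hvH => hf ?_, fun h => ?_⟩⟩
  swap
  · exact (Submodule.mem_bot F).1 (hfW ▸ Submodule.mem_map_of_mem ((hWmem hv).2 h))
  refine LinearMap.ext fun w => ?_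
  have hker : ∀ {z : Fin n → F}, z ∈ W → f z = 0 := fun hz =>
    (Submodule.mem_bot F).1 (hfW ▸ Submodule.mem_map_of_mem hz)
  rw [LinearMap.zero_apply]
  by_cases hw : w = 0
  · rw [hw, map_zero]
  by_cases he : pt φ v hv = pt φ w hw
  · obtain ⟨a, ha⟩ := (pt_eq_iff φ hw hv).1 he.symm
    rw [← ha, map_smul, hfv, smul_zero]
  obtain ⟨z, hz, hzH⟩ := hH.meets he
  obtain ⟨zv, hzv, rfl⟩ := pt_surj φ z
  obtain ⟨s, t, e⟩ := (mem_ln_iff hφ hv hw hzv he).1 hz
  have hfz := hker ((hWmem hzv).2 hzH)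
  rw [← e, map_add, map_smul, map_smul, hfv, smul_zero, zero_add, smul_eq_mul, mul_eq_zero] at hfz
  refine hfz.resolve_left fun ht => hvH ?_
  rw [ht, zero_smul, add_zero] at e
  rwa [(pt_eq_iff φ hzv hv).2 ⟨s, e⟩] at hzH

/-- An elation acts as a transvection. -/
theorem exists_acts (hφ : LineMap φ D) (hn : 3 ≤ n) {H : Set X} (hH : D.IsHyp H)
    {f : (Fin n → F) →ₗ[F] F} (hf : ∀ (v : Fin n → F) (hv : v ≠ 0), f v = 0 ↔ pt φ v hv ∈ H)
    {c : Fin n → F} (hc : c ≠ 0) (hγ : pt φ c hc ∈ H) {g : G}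
    (hg : D.IsEl (pt φ c hc) H g) : ∃ β : F, Acts φ g c (β • f) := by
  classical
  have hfc : f c = 0 := (hf c hc).2 hγ
  -- the image of one point determines the others
  have step : ∀ (b : Fin n → F) (hb : b ≠ 0) (β : F), f b = 1 →
      (∃ h : b + β • c ≠ 0, g • pt φ b hb = pt φ (b + β • c) h) →
      ∀ (v : Fin n → F) (hv : v ≠ 0), f v ≠ 0 → v ∉ Submodule.span F ({c, b} : Set (Fin n → F)) →
      ∃ h : v + (β • f) v • c ≠ 0, g • pt φ v hv = pt φ (v + (β • f) v • c) h := by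
    intro b hb β hfb himg v hv hfv hspan
    obtain ⟨hb', himg⟩ := himg
    set y := v - f v • b with hy
    have hy0 : y ≠ 0 := fun e => hspan (Submodule.mem_span_pair.2 ⟨0, f v, by
      rw [zero_smul, zero_add]; exact (sub_eq_zero.1 e).symm⟩)
    have hfy : f y = 0 := by rw [hy, map_sub, map_smul, hfb, smul_eq_mul, mul_one, sub_self]
    have hyH := (hf y hy0).1 hfy
    have hyb : pt φ y hy0 ≠ pt φ b hb := fun e => by
      rw [e] at hyH
      exact one_ne_zero (hfb.symm.trans ((hf b hb).2 hyH))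
    have hvl : pt φ v hv ∈ D.ln (pt φ y hy0) (pt φ b hb) :=
      (mem_ln_iff hφ hy0 hb hv hyb).2 ⟨1, f v, by rw [one_smul, hy, sub_add_cancel]⟩
    have h1 := D.smul_mem g hyb hvl
    rw [hg.1 _ hyH, himg] at h1
    have hcv : pt φ c hc ≠ pt φ v hv := fun e => hfv ((hf v hv).2 (e ▸ hγ))
    have h2 := hg.2 _ hcv.symm
    obtain ⟨z, hz, hzpt⟩ := pt_surj φ (g • pt φ v hv)
    rw [← hzpt] at h1 h2
    have hyb' : pt φ y hy0 ≠ pt φ (b + β • c) hb' := by
      rw [← himg, ← hg.1 _ hyH]; exact ONanGeom.smul_ne g hyb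
    obtain ⟨s, r, e1⟩ := (mem_ln_iff hφ hy0 hb' hz hyb').1 h1
    obtain ⟨s', r', e2⟩ := (mem_ln_iff hφ hc hv hz hcv).1 h2
    have hr : r = r' * f v := by
      have e := congrArg f (e1.trans e2.symm)
      simpa [hfy, hfb, hfc] using e
    have e3 : (s - r') • y + (r * β - s') • c = 0 := by
      have e4 : y + f v • b = v := by rw [hy, sub_add_cancel]
      calc (s - r') • y + (r * β - s') • c
          = (s • y + r • (b + β • c)) - (s' • c + r' • (y + f v • b)) := by rw [hr]; module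
        _ = 0 := by rw [e4, e1, e2, sub_self]
    have hs : s = r' := by
      by_contra hne
      refine hspan ?_
      have hyc : y = (-(r * β - s') / (s - r')) • c := by
        rw [div_eq_inv_mul, mul_smul, neg_smul, ← eq_neg_of_add_eq_zero_left e3,
          inv_smul_smul₀ (sub_ne_zero.2 hne)]
      exact Submodule.mem_span_pair.2 ⟨_, f v, by rw [← hyc, hy, sub_add_cancel]⟩
    have hs' : r * β = s' := by
      rw [hs, sub_self, zero_smul, zero_add, smul_eq_zero, sub_eq_zero] at e3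
      exact e3.resolve_right hc
    have hzeq : z = r' • (v + (β • f) v • c) := by
      rw [← e2, ← hs', hr, LinearMap.smul_apply, smul_eq_mul]; module
    have hv' : v + (β • f) v • c ≠ 0 := fun e => hz (by rw [hzeq, e, smul_zero])
    exact ⟨hv', by rw [← hzpt]; exact (pt_eq_iff φ hz hv').2 ⟨r', hzeq.symm⟩⟩
  -- a base point
  obtain ⟨P, hP⟩ := hH.proper
  obtain ⟨u, hu, rfl⟩ := pt_surj φ P
  have hfu : f u ≠ 0 := fun e => hP ((hf u hu).1 e)
  set b := (f u)⁻¹ • u with hbdef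
  have hfb : f b = 1 := by rw [hbdef, map_smul, smul_eq_mul, inv_mul_cancel₀ hfu]
  have hb : b ≠ 0 := fun e => by rw [e, map_zero] at hfb; exact zero_ne_one hfb
  have hbH : pt φ b hb ∉ H := fun e => one_ne_zero (hfb.symm.trans ((hf b hb).2 e))
  have hcb : pt φ c hc ≠ pt φ b hb := fun e => hbH (e ▸ hγ)
  obtain ⟨z, hz, hzpt⟩ := pt_surj φ (g • pt φ b hb)
  have hzl := hg.2 _ hcb.symm
  rw [← hzpt] at hzl
  obtain ⟨s, r, e⟩ := (mem_ln_iff hφ hc hb hz hcb).1 hzl
  have hr : r ≠ 0 := fun hr => hg.ne hγ hcb.symm (by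
    rw [← hzpt]
    exact (pt_eq_iff φ hz hc).2 ⟨s, by rw [← e, hr, zero_smul, add_zero]⟩)
  have hb' : b + (s / r) • c ≠ 0 := fun h => one_ne_zero (α := F) (by
    rw [← hfb]; simpa [hfc] using congrArg f h)
  have himg : g • pt φ b hb = pt φ (b + (s / r) • c) hb' := by
    rw [← hzpt]
    refine (pt_eq_iff φ hz hb').2 ⟨r, ?_⟩
    rw [smul_add, smul_smul r (s / r) c, mul_div_cancel₀ s hr, ← e, add_comm]
  refine ⟨s / r, fun v hv => ?_⟩
  by_cases hfv : f v = 0
  · have e0 : v + ((s / r) • f) v • c = v := by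
      rw [LinearMap.smul_apply, hfv, smul_zero, zero_smul, add_zero]
    exact ⟨e0.symm ▸ hv, by rw [hg.1 _ ((hf v hv).1 hfv)]; exact pt_congr φ e0.symm _ _⟩
  by_cases hspan : v ∈ Submodule.span F ({c, b} : Set (Fin n → F))
  swap
  · exact step b hb _ hfb ⟨hb', himg⟩ v hv hfv hspan
  -- a second base point
  obtain ⟨w, hw⟩ := exists_outside hn c b
  obtain ⟨b₁, hb₁s, hfb₁⟩ : ∃ b₁, b₁ ∉ Submodule.span F ({c, b} : Set (Fin n → F)) ∧ f b₁ = 1 := by
    refine ⟨w + (1 - f w) • b, fun h => hw ?_, by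
      rw [map_add, map_smul, hfb, smul_eq_mul, mul_one]; ring⟩
    have := sub_mem h (Submodule.smul_mem _ (1 - f w)
      (Submodule.subset_span (by simp) : b ∈ Submodule.span F ({c, b} : Set (Fin n → F))))
    rwa [add_sub_cancel_right] at this
  have hb₁ : b₁ ≠ 0 := fun e => by rw [e, map_zero] at hfb₁; exact zero_ne_one hfb₁
  obtain ⟨hb₁', himg₁⟩ := step b hb _ hfb ⟨hb', himg⟩ b₁ hb₁
    (by rw [hfb₁]; exact one_ne_zero) hb₁s
  have e1 : b₁ + ((s / r) • f) b₁ • c = b₁ + (s / r) • c := by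
    rw [LinearMap.smul_apply, hfb₁, smul_eq_mul, mul_one]
  refine step b₁ hb₁ _ hfb₁ ⟨e1 ▸ hb₁', himg₁.trans (pt_congr φ e1 _ _)⟩ v hv hfv fun h => ?_
  obtain ⟨p, q, e2⟩ := Submodule.mem_span_pair.1 h
  have hq : q ≠ 0 := fun hq => hfv (by
    rw [← e2, hq, zero_smul, add_zero, map_smul, hfc, smul_zero])
  refine hb₁s ?_
  have e3 : b₁ = q⁻¹ • (v - p • c) := by rw [← e2, add_sub_cancel_left, inv_smul_smul₀ hq]
  rw [e3]
  exact Submodule.smul_mem _ _ (sub_mem hspan (Submodule.smul_mem _ _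
    (Submodule.subset_span (by simp))))

/-- All multiples of the axis functional are realised. -/
theorem realise (hφ : LineMap φ D) (hn : 3 ≤ n) {H : Set X} (hA : Data.IsAxis D H)
    {f : (Fin n → F) →ₗ[F] F} (hf : ∀ (v : Fin n → F) (hv : v ≠ 0), f v = 0 ↔ pt φ v hv ∈ H)
    {c : Fin n → F} (hc : c ≠ 0) (hγ : pt φ c hc ∈ H) (β : F) :
    ∃ g ∈ D.tGrp, Acts φ g c (β • f) := by
  obtain ⟨P, hP⟩ := hA.hyp.proper
  obtain ⟨b, hb, rfl⟩ := pt_surj φ P
  have hfb : f b ≠ 0 := fun e => hP ((hf b hb).1 e)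
  have hfc : f c = 0 := (hf c hc).2 hγ
  have hb' : b + (β • f) b • c ≠ 0 :=
    add_ne_zero' (by rw [LinearMap.smul_apply, hfc, smul_zero]) hb
  have hcb : pt φ c hc ≠ pt φ b hb := fun e => hP (e ▸ hγ)
  have hne : pt φ (b + (β • f) b • c) hb' ≠ pt φ c hc := fun e => hfb (by
    obtain ⟨a, ha⟩ := (pt_eq_iff φ hb' hc).1 e
    have := congrArg f ha
    simpa [hfc] using this.symm)
  obtain ⟨g, hgL, hg, hgb⟩ := hA.full _ hγ _ hP _
    ((mem_ln_iff hφ hc hb hb' hcb).2 ⟨(β • f) b, 1, by rw [one_smul, add_comm]⟩) hne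
  obtain ⟨β', hβ'⟩ := exists_acts hφ hn hA.hyp hf hc hγ hg
  refine ⟨g, hgL, ?_⟩
  suffices β' = β by rw [← this]; exact hβ'
  obtain ⟨h1, e1⟩ := hβ' b hb
  obtain ⟨a, ha⟩ := (pt_eq_iff φ hb' h1).1 (hgb.symm.trans e1)
  have ha1 : a = 1 := by
    have := congrArg f ha
    simp only [map_smul, map_add, LinearMap.smul_apply, hfc, mul_zero, add_zero, smul_eq_mul] at this
    exact (mul_eq_right₀ hfb).1 this
  rw [ha1, one_smul, add_left_cancel_iff] at ha
  have := smul_left_injective F hc ha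
  simpa [hfb] using this

variable [Finite X]

/-- The functional of an elation of `D.T`. -/
theorem acts_of_T (h2 : TwoTrans G X) (hφ : LineMap φ D) (hn : 3 ≤ n) {c : Fin n → F} (hc : c ≠ 0)
    {t : G} (ht : t ∈ D.T (pt φ c hc)) (ht1 : t ≠ 1) :
    ∃ f : (Fin n → F) →ₗ[F] F, f c = 0 ∧ Acts φ t c f ∧
      (∀ β : F, ∃ g ∈ D.tGrp, Acts φ g c (β • f)) ∧
      ∀ (v : Fin n → F) (hv : v ≠ 0), t • pt φ v hv ≠ pt φ v hv → f v ≠ 0 := by
  have hA := Data.fixSet_isAxis h2 ht ht1
  obtain ⟨f, -, hf⟩ := exists_functional hφ hA.hyp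
  have hγ : pt φ c hc ∈ Data.fixSet (X := X) t := D.fix_center ht
  obtain ⟨β, hβ⟩ := exists_acts hφ hn hA.hyp hf hc hγ (D.isEl_of_T ht)
  refine ⟨β • f, by rw [LinearMap.smul_apply, (hf c hc).2 hγ, smul_zero], hβ, fun μ => ?_,
    fun v hv hmove e => hmove ?_⟩
  · rw [smul_smul]; exact realise hφ hn hA hf hc hγ _
  · obtain ⟨h1, e1⟩ := hβ v hv
    rw [e1]; exact pt_congr φ (by rw [e, zero_smul, add_zero]) _ _

/-- Every transvection is realised in the generated group. -/
theorem exists_acts_all (h2 : TwoTrans G X) (hφ : LineMap φ D) (hn : 3 ≤ n) {c : Fin n → F}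
    (hc : c ≠ 0) {f : (Fin n → F) →ₗ[F] F} (hfc : f c = 0) : ∃ g ∈ D.tGrp, Acts φ g c f := by
  let S : Submodule F (Module.Dual F (Fin n → F)) :=
    { carrier := {h | h c = 0 ∧ ∀ β : F, ∃ g ∈ D.tGrp, Acts φ g c (β • h)}
      zero_mem' := ⟨rfl, fun β => ⟨1, one_mem _, fun v hv => ⟨by simpa using hv, by
        rw [one_smul]; exact pt_congr φ (by simp) _ _⟩⟩⟩
      add_mem' := fun {h h'} hh hh' => ⟨by rw [LinearMap.add_apply, hh.1, hh'.1, add_zero],
        fun β => by
          obtain ⟨g, hg, ha⟩ := hh.2 β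
          obtain ⟨g', hg', ha'⟩ := hh'.2 β
          exact ⟨g * g', mul_mem hg hg', by
            rw [smul_add]; exact ha.mul ha' (by rw [LinearMap.smul_apply, hh.1, smul_zero])⟩⟩
      smul_mem' := fun a h hh => ⟨by rw [LinearMap.smul_apply, hh.1, smul_zero],
        fun β => by rw [smul_smul]; exact hh.2 _⟩ }
  have hco : S.dualCoannihilator ≤ Submodule.span F {c} := by
    intro w hw
    by_contra hwc
    have hw0 : w ≠ 0 := fun e => hwc (e ▸ zero_mem _)
    have hne := pt_ne φ hc hw0 hwc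
    obtain ⟨t, ht, ht1, hmove⟩ := Data.exists_elt (D := D) hne
    obtain ⟨h, hhc, -, hall, hsep⟩ := acts_of_T h2 hφ hn hc ht ht1
    exact hsep w hw0 hmove ((Submodule.mem_dualCoannihilator w).1 hw h ⟨hhc, hall⟩)
  have hfS : f ∈ S.dualCoannihilator.dualAnnihilator := by
    rw [Submodule.mem_dualAnnihilator]
    intro w hw
    obtain ⟨a, rfl⟩ := Submodule.mem_span_singleton.1 (hco hw)
    rw [map_smul, hfc, smul_zero]
  rw [Subspace.dualCoannihilator_dualAnnihilator_eq] at hfS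
  obtain ⟨g, hg, ha⟩ := hfS.2 1
  exact ⟨g, hg, by rwa [one_smul] at ha⟩

/-- The generated group is `PSL`. -/
theorem tGrp_equiv_psl [Finite G] (h2 : TwoTrans G X) (hφ : LineMap φ D) (hn : 3 ≤ n) :
    Nonempty (↥D.tGrp ≃* Matrix.ProjectiveSpecialLinearGroup (Fin n) F) := by
  classical
  let π : Matrix.ProjectiveSpecialLinearGroup (Fin n) F →* Equiv.Perm X :=
    φ.symm.permCongrHom.toMonoidHom.comp
      (Projectivization.PSLAction.toPermHom (K := F) (ι := Fin n))
  have hπ : Function.Injective π :=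
    φ.symm.permCongrHom.injective.comp Matrix.ProjectiveSpecialLinearGroup.toPermHom_injective
  have hπpt : ∀ (A : Matrix.SpecialLinearGroup (Fin n) F) (v : Fin n → F) (hv : v ≠ 0),
      ∃ h : A • v ≠ 0, π (QuotientGroup.mk A) (pt φ v hv) = pt φ (A • v) h := by
    intro A v hv
    refine ⟨fun e => hv (by rw [← inv_smul_smul A v, e, smul_zero]), ?_⟩
    show φ.symm (A • (φ (φ.symm _))) = _
    rw [Equiv.apply_symm_apply, Projectivization.smul_mk]
    rfl
  let ρ : G →* Equiv.Perm X := MulAction.toPermHom G X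
  have hρ : Function.Injective ρ := fun a b e => eq_of_smul_eq_smul fun x : X =>
    congrArg (fun σ : Equiv.Perm X => σ x) e
  have hmatch : ∀ (g : G) (A : Matrix.SpecialLinearGroup (Fin n) F) (c : Fin n → F)
      (f : (Fin n → F) →ₗ[F] F), Acts φ g c f → (∀ v, A • v = v + f v • c) →
      π (QuotientGroup.mk A) = ρ g := by
    intro g A c f hg hA
    refine Equiv.ext fun x => ?_
    obtain ⟨v, hv, rfl⟩ := pt_surj φ x
    obtain ⟨h1, e1⟩ := hπpt A v hv
    obtain ⟨h2', e2⟩ := hg v hv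
    rw [e1]
    exact (pt_congr φ (hA v) _ _).trans e2.symm
  have hrange : D.tGrp.map ρ = π.range := by
    apply le_antisymm
    · rw [Data.tGrp, MonoidHom.map_closure, Subgroup.closure_le]
      rintro _ ⟨t, ⟨a, ht⟩, rfl⟩
      by_cases ht1 : t = 1
      · subst ht1; rw [map_one]; exact one_mem _
      obtain ⟨c, hc, rfl⟩ := pt_surj φ a
      obtain ⟨f, hfc, hact, -, -⟩ := acts_of_T h2 hφ hn hc ht ht1
      have hdet : (LinearMap.toMatrix' (LinearMap.transvection f c)).det = 1 := by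
        rw [LinearMap.det_toMatrix', LinearMap.transvection.det, hfc, add_zero]
      refine ⟨QuotientGroup.mk ⟨_, hdet⟩, hmatch t _ c f hact fun v => ?_⟩
      show (LinearMap.toMatrix' (LinearMap.transvection f c)).mulVec v = _
      rw [LinearMap.toMatrix'_mulVec, LinearMap.transvection.apply]
    · rintro _ ⟨A, rfl⟩
      induction A using QuotientGroup.induction_on with
      | _ A =>
        suffices h : ⊤ ≤ (D.tGrp.map ρ).comap (π.comp (QuotientGroup.mk' _)) from
          h (Subgroup.mem_top A)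
        rw [← Classical.Linear.closure_transvectionSet, Subgroup.closure_le]
        rintro _ ⟨i, j, hij, a, rfl⟩
        obtain ⟨g, hg, hact⟩ := exists_acts_all h2 hφ hn (c := Pi.single i (1 : F))
          (f := a • LinearMap.proj j) (fun e => one_ne_zero (α := F) (by simpa using congrFun e i))
          (by simp [hij.symm])
        refine ⟨g, hg, (hmatch g _ _ _ hact fun v => funext fun k => ?_).symm⟩
        rw [Classical.Linear.transvection_smul_apply]
        by_cases hk : k = i <;> simp [hk]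
  exact ⟨(D.tGrp.equivMapOfInjective ρ hρ).trans
    ((MulEquiv.subgroupCongr hrange).trans (MonoidHom.ofInjective hπ).symm)⟩

end chart

namespace Data

variable {D : Data G X} [FaithfulSMul G X]

theorem tGrp_normal : (D.tGrp).Normal := by
  constructor
  intro x hx g
  have : D.tGrp.map (MulAut.conj g).toMonoidHom ≤ D.tGrp := by
    rw [tGrp, MonoidHom.map_closure, Subgroup.closure_le]
    rintro _ ⟨t, ⟨a, ht⟩, rfl⟩
    exact Subgroup.subset_closure ⟨g • a, D.conj g ht⟩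
  exact this ⟨x, hx, rfl⟩

theorem centralizer_tGrp : Subgroup.centralizer (D.tGrp : Set G) = ⊥ := by
  rw [eq_bot_iff]
  intro g hg
  rw [Subgroup.mem_bot]
  refine eq_of_smul_eq_smul fun a : X => ?_
  rw [one_smul]
  by_contra hne
  obtain ⟨t, ht, ht1, -⟩ := exists_elt (D := D) (Ne.symm hne)
  have ht' : t ∈ D.T (g • a) := by
    have := D.conj g ht
    rwa [← Subgroup.mem_centralizer_iff.1 hg t (D.T_le_tGrp ht), mul_inv_cancel_right] at this
  exact ht1 (D.eq_one_of_two_centres (Ne.symm hne) (fun x hx => D.central ht hx)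
    (fun x hx => D.central ht' hx))

end Data

/-- The geometric end of O'Nan's theorem. -/
theorem conclusion [Finite G] [Finite X] [FaithfulSMul G X] (h2 : TwoTrans G X) (D : Data G X) :
    ∃ (F : Type) (_ : Field F) (_ : Fintype F) (n : ℕ), 3 ≤ n ∧
      Nat.card X * (Fintype.card F - 1) = Fintype.card F ^ n - 1 ∧
      ∃ L : Subgroup G, L.Normal ∧ Subgroup.centralizer (L : Set G) = ⊥ ∧
        Nonempty (↥L ≃* Matrix.ProjectiveSpecialLinearGroup (Fin n) F) := by
  obtain ⟨F, iF, iFin, n, φ, hn, hφ⟩ := Data.coordinatised h2 D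
  refine ⟨F, iF, iFin, n, hn, ?_, D.tGrp, Data.tGrp_normal, Data.centralizer_tGrp,
    tGrp_equiv_psl h2 hφ hn⟩
  rw [Nat.card_congr φ, ← Nat.card_eq_fintype_card (α := F), ← Projectivization.card, Nat.card_fun,
    Nat.card_eq_fintype_card (α := Fin n), Fintype.card_fin]

end Cfsg.Agent.ONanGeom
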