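import Mathlib

/-!
An abelian group partitioned into subgroups, so that every sum of two members is a union of
members and there are at least three independent members: the endomorphisms preserving the members
form a division ring transitive on each member.
-/

set_option autoImplicit false

namespace Cfsg.Agent.ONanGeom

universe uV uI

variable {V : Type uV} [AddCommGroup V] {ι : Type uI}

/-- A partition of `V` whose pairwise sums are unions of members, of rank at least three. -/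
structure IsPlanes (C : ι → AddSubgroup V) : Prop where
  cover : ∀ v : V, v ≠ 0 → ∃ i, v ∈ C i
  disj : ∀ {i j : ι}, i ≠ j → ∀ {v : V}, v ∈ C i → v ∈ C j → v = 0
  ne_bot : ∀ i, ∃ v ∈ C i, v ≠ 0
  plane : ∀ {i j k : ι}, i ≠ j → ∀ {v : V}, v ∈ C k → v ≠ 0 → v ∈ C i ⊔ C j → C k ≤ C i ⊔ C j
  room : ∀ i j, ∃ k, ¬ C k ≤ C i ⊔ C j

/-- Corresponding differences lie in the same member. -/
def Rel (C : ι → AddSubgroup V) (x v x' v' : V) : Prop := ∃ l, x - x' ∈ C l ∧ v - v' ∈ C l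

theorem Rel.symm {C : ι → AddSubgroup V} {x v x' v' : V} (h : Rel C x v x' v') :
    Rel C x' v' x v := by
  obtain ⟨l, h1, h2⟩ := h
  exact ⟨l, by rw [← neg_sub]; exact neg_mem h1, by rw [← neg_sub]; exact neg_mem h2⟩

namespace IsPlanes

variable {C : ι → AddSubgroup V} (h : IsPlanes C)
include h

theorem idx_eq {i j : ι} {v : V} (hi : v ∈ C i) (hj : v ∈ C j) (hv : v ≠ 0) : i = j :=
  by_contra fun hne => hv (h.disj hne hi hj)

theorem exchange {i j m : ι} (hij : i ≠ j) (hm : C m ≤ C i ⊔ C j) (hmi : m ≠ i) :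
    C i ⊔ C j ≤ C i ⊔ C m := by
  obtain ⟨y, hy, hy0⟩ := h.ne_bot m
  obtain ⟨a, ha, b, hb, hab⟩ := AddSubgroup.mem_sup.1 (hm hy)
  have hb0 : b ≠ 0 := by
    rintro rfl
    rw [add_zero] at hab
    exact hy0 (h.disj hmi hy (hab ▸ ha))
  refine sup_le le_sup_left (h.plane hmi.symm hb hb0 ?_)
  rw [eq_sub_of_add_eq' hab]
  exact sub_mem (AddSubgroup.mem_sup_right hy) (AddSubgroup.mem_sup_left ha)

/-- Two members of a plane span it. -/
theorem span {i j k l : ι} (hij : i ≠ j) (hkl : k ≠ l) (hk : C k ≤ C i ⊔ C j)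
    (hl : C l ≤ C i ⊔ C j) : C i ⊔ C j ≤ C k ⊔ C l := by
  by_cases hki : k = i
  · subst hki
    exact h.exchange hij hl hkl.symm
  · have h1 := h.exchange hij hk hki
    rw [sup_comm (C i) (C k)] at h1
    exact h1.trans (h.exchange hki (hl.trans h1) hkl.symm)

theorem comp_sub {i j : ι} (hij : i ≠ j) {x y : V} (hx : x ∈ C i) (hy : y ∈ C j) (hy0 : y ≠ 0) :
    x - y ≠ 0 := fun e => hy0 (h.disj hij (sub_eq_zero.1 e ▸ hx) hy)

/-- The value at `x` determined by the base pair. -/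
theorem exists_val {i j : ι} (hij : i ≠ j) {y z x : V} (hy : y ∈ C i) (hy0 : y ≠ 0) (hz : z ∈ C i)
    (hx : x ∈ C j) (hx0 : x ≠ 0) : ∃ v ∈ C j, Rel C y z x v := by
  obtain ⟨l, hl⟩ := h.cover _ (h.comp_sub hij hy hx hx0)
  have hlj : j ≠ l := fun e => hy0 (h.disj hij hy (by
    have := add_mem (e ▸ hl : y - x ∈ C j) hx
    rwa [sub_add_cancel] at this))
  have hyp : y ∈ C j ⊔ C l := by
    rw [← add_sub_cancel x y]
    exact add_mem (AddSubgroup.mem_sup_left hx) (AddSubgroup.mem_sup_right hl)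
  obtain ⟨v, hv, w, hw, e⟩ := AddSubgroup.mem_sup.1 (h.plane hlj hy hy0 hyp hz)
  exact ⟨v, hv, l, hl, by rwa [← e, add_sub_cancel_left]⟩

theorem val_unique {i j : ι} (hij : i ≠ j) {y z x v v' : V} (hy : y ∈ C i) (hy0 : y ≠ 0)
    (hx : x ∈ C j) (hx0 : x ≠ 0) (hv : v ∈ C j) (hv' : v' ∈ C j) (h1 : Rel C y z x v)
    (h2 : Rel C y z x v') : v = v' := by
  obtain ⟨l, hl, hl'⟩ := h1
  obtain ⟨m, hm, hm'⟩ := h2
  obtain rfl := h.idx_eq hl hm (h.comp_sub hij hy hx hx0)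
  have hlj : j ≠ l := fun e => hy0 (h.disj hij hy (by
    have := add_mem (e ▸ hl : y - x ∈ C j) hx
    rwa [sub_add_cancel] at this))
  exact sub_eq_zero.1 (h.disj hlj (sub_mem hv hv') (by
    have := sub_mem hm' hl'
    rwa [sub_sub_sub_cancel_left] at this))

/-- Values from one base are related when the three members are independent. -/
theorem key {i j k : ι} (hij : i ≠ j) (hik : i ≠ k) (hk : ¬ C k ≤ C i ⊔ C j) {y z x v w u : V}
    (hy : y ∈ C i) (hy0 : y ≠ 0) (hx : x ∈ C j) (hx0 : x ≠ 0) (hv : v ∈ C j) (hw : w ∈ C k)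
    (hw0 : w ≠ 0) (hu : u ∈ C k) (h1 : Rel C y z x v) (h2 : Rel C y z w u) : Rel C x v w u := by
  have hjk : j ≠ k := fun e => hk (e ▸ le_sup_right)
  obtain ⟨l₁, hl₁, hl₁'⟩ := h1
  obtain ⟨l₂, hl₂, hl₂'⟩ := h2
  have hxw := h.comp_sub hjk hx hw hw0
  obtain ⟨m, hm⟩ := h.cover _ hxw
  have e1 : x - w = (y - w) - (y - x) := (sub_sub_sub_cancel_left _ _ _).symm
  have e2 : v - u = (z - u) - (z - v) := (sub_sub_sub_cancel_left _ _ _).symm
  by_cases hl : l₁ = l₂
  · subst hl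
    exact ⟨l₁, e1 ▸ sub_mem hl₂ hl₁, e2 ▸ sub_mem hl₂' hl₁'⟩
  refine ⟨m, hm, ?_⟩
  by_cases hd : v - u = 0
  · rw [hd]; exact zero_mem _
  obtain ⟨n, hn⟩ := h.cover _ hd
  by_cases hnm : n = m
  · exact hnm ▸ hn
  exfalso
  have m1 : C m ≤ C j ⊔ C k := h.plane hjk hm hxw
    (sub_mem (AddSubgroup.mem_sup_left hx) (AddSubgroup.mem_sup_right hw))
  have n1 : C n ≤ C j ⊔ C k := h.plane hjk hn hd
    (sub_mem (AddSubgroup.mem_sup_left hv) (AddSubgroup.mem_sup_right hu))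
  have m2 : C m ≤ C l₁ ⊔ C l₂ := h.plane hl hm hxw
    (e1 ▸ sub_mem (AddSubgroup.mem_sup_right hl₂) (AddSubgroup.mem_sup_left hl₁))
  have n2 : C n ≤ C l₁ ⊔ C l₂ := h.plane hl hn hd
    (e2 ▸ sub_mem (AddSubgroup.mem_sup_right hl₂') (AddSubgroup.mem_sup_left hl₁'))
  have h12 : C l₁ ⊔ C l₂ ≤ C j ⊔ C k := (h.span hl hnm n2 m2).trans (sup_le n1 m1)
  have hyjk : C i ≤ C j ⊔ C k := h.plane hjk hy hy0 (by
    rw [← add_sub_cancel x y]
    exact add_mem (AddSubgroup.mem_sup_left hx) (h12 (AddSubgroup.mem_sup_left hl₁)))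
  exact hk (le_sup_right.trans (h.span hjk hij hyjk le_sup_left))

/-- A dilatation with prescribed value exists. -/
theorem exists_endo {i : ι} {y z : V} (hy : y ∈ C i) (hy0 : y ≠ 0) (hz : z ∈ C i) :
    ∃ f : V →+ V, (∀ j, ∀ x ∈ C j, f x ∈ C j) ∧ f y = z := by
  classical
  choose idx hidx using h.cover
  choose nz hnz hnz0 using h.ne_bot
  choose out hout using h.room i
  have hval : ∀ k, i ≠ k → ∃ u ∈ C k, Rel C y z (nz k) u := fun k hk =>
    h.exists_val hk hy hy0 hz (hnz k) (hnz0 k)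
  -- the value does not depend on the auxiliary member
  have main : ∀ j x, x ∈ C j → x ≠ 0 → ∃ v ∈ C j, ∀ k w u, ¬ C k ≤ C i ⊔ C j → w ∈ C k → w ≠ 0 →
      u ∈ C k → Rel C y z w u → Rel C w u x v := by
    intro j x hx hx0
    by_cases hij : i = j
    swap
    · obtain ⟨v, hv, hr⟩ := h.exists_val hij hy hy0 hz hx hx0
      refine ⟨v, hv, fun k w u hk hw hw0 hu hwu => ?_⟩
      have hik : i ≠ k := fun e => hk (e ▸ le_sup_left)
      exact (h.key hij hik hk hy hy0 hx hx0 hv hw hw0 hu hr hwu).symm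
    subst hij
    have hik : ∀ k, ¬ C k ≤ C i ⊔ C i → i ≠ k := fun k hk e => hk (e ▸ le_sup_left)
    have step : ∀ k w u k' w' u' v, i ≠ k → i ≠ k' → ¬ C k' ≤ C i ⊔ C k → w ∈ C k → w ≠ 0 →
        u ∈ C k → w' ∈ C k' → w' ≠ 0 → u' ∈ C k' → Rel C y z w u → Rel C y z w' u' → v ∈ C i →
        Rel C w u x v → Rel C w' u' x v := by
      intro k w u k' w' u' v hk hk' hout' hw hw0 hu hw' hw0' hu' r r' hv hrv
      have hr := h.key hk hk' hout' hy hy0 hw hw0 hu hw' hw0' hu' r r'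
      have hkk' : k ≠ k' := fun e => hout' (e ▸ le_sup_right)
      exact (h.key hk.symm hkk' (by rwa [sup_comm]) hw hw0 hx hx0 hv hw' hw0' hu' hrv hr).symm
    obtain ⟨k₀, hk₀⟩ : ∃ k, ¬ C k ≤ C i ⊔ C i := ⟨out i, hout i⟩
    obtain ⟨u₀, hu₀, r₀⟩ := hval k₀ (hik _ hk₀)
    obtain ⟨v, hv, hrv⟩ := h.exists_val (hik _ hk₀).symm (hnz k₀) (hnz0 k₀) hu₀ hx hx0
    refine ⟨v, hv, fun k w u hk hw hw0 hu hwu => ?_⟩
    by_cases hc : C k ≤ C i ⊔ C k₀
    swap
    · exact step k₀ _ u₀ k w u v (hik _ hk₀) (hik _ hk) hc (hnz _) (hnz0 _) hu₀ hw hw0 hu r₀ hwu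
        hv hrv
    have hk₁ : ¬ C (out k₀) ≤ C i ⊔ C k₀ := hout k₀
    have hik₁ : i ≠ out k₀ := fun e => hk₁ (e ▸ le_sup_left)
    obtain ⟨u₁, hu₁, r₁⟩ := hval _ hik₁
    have h1 := step k₀ _ u₀ (out k₀) _ u₁ v (hik _ hk₀) hik₁ hk₁ (hnz _) (hnz0 _) hu₀ (hnz _)
      (hnz0 _) hu₁ r₀ r₁ hv hrv
    refine step (out k₀) _ u₁ k w u v hik₁ (hik _ hk) (fun hle => hk₁ ?_) (hnz _) (hnz0 _) hu₁ hw
      hw0 hu r₁ hwu hv h1
    exact le_sup_right.trans ((h.span hik₁ (hik _ hk) le_sup_left hle).trans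
      (sup_le le_sup_left hc))
  choose val hvalC hvalR using main
  let f : V → V := fun x => if hx : x = 0 then 0 else val (idx x hx) x (hidx x hx) hx
  have hf : ∀ j x, x ∈ C j → f x ∈ C j := by
    intro j x hx
    by_cases hx0 : x = 0
    · simp only [f, hx0, dif_pos]; exact zero_mem _
    · simp only [f, hx0, dif_neg, not_false_eq_true]
      exact h.idx_eq (hidx x hx0) hx hx0 ▸ hvalC _ x (hidx x hx0) hx0
  have hspec : ∀ j x, x ∈ C j → x ≠ 0 → ∀ k w u, ¬ C k ≤ C i ⊔ C j → w ∈ C k → w ≠ 0 →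
      u ∈ C k → Rel C y z w u → Rel C w u x (f x) := by
    intro j x hx hx0 k w u hk hw hw0 hu r
    have hj : idx x hx0 = j := h.idx_eq (hidx x hx0) hx hx0
    simp only [f, hx0, dif_neg, not_false_eq_true]
    exact hvalR _ x (hidx x hx0) hx0 k w u (hj.symm ▸ hk) hw hw0 hu r
  have hbase : ∀ j x, x ∈ C j → x ≠ 0 → i ≠ j → Rel C y z x (f x) := by
    intro j x hx hx0 hij
    obtain ⟨v, hv, hr⟩ := h.exists_val hij hy hy0 hz hx hx0
    have hk : ¬ C (out j) ≤ C i ⊔ C j := hout j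
    have hik : i ≠ out j := fun e => hk (e ▸ le_sup_left)
    have hjk : out j ≠ j := fun e => hk (by rw [e]; exact le_sup_right)
    obtain ⟨u, hu, r⟩ := hval _ hik
    rw [h.val_unique hjk (hnz _) (hnz0 _) hx hx0 (hf j x hx) hv
      (hspec j x hx hx0 _ _ u hk (hnz _) (hnz0 _) hu r)
      (h.key hij hik hk hy hy0 hx hx0 hv (hnz _) (hnz0 _) hu hr r).symm]
    exact hr
  have hfy : f y = z := by
    have hk : ¬ C (out i) ≤ C i ⊔ C i := hout i
    have hik : i ≠ out i := fun e => hk (e ▸ le_sup_left)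
    obtain ⟨u, hu, r⟩ := hval _ hik
    exact h.val_unique hik.symm (hnz _) (hnz0 _) hy hy0 (hf i y hy) hz
      (hspec i y hy hy0 _ _ u hk (hnz _) (hnz0 _) hu r) r.symm
  -- differences keep their member
  have hP : ∀ j x j' x', x ∈ C j → x ≠ 0 → x' ∈ C j' → x' ≠ 0 → j ≠ j' →
      Rel C x (f x) x' (f x') := by
    intro j x j' x' hx hx0 hx' hx0' hne
    by_cases hgen : i ≠ j ∧ i ≠ j' ∧ ¬ C j' ≤ C i ⊔ C j
    · exact h.key hgen.1 hgen.2.1 hgen.2.2 hy hy0 hx hx0 (hf j x hx) hx' hx0' (hf j' x' hx')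
        (hbase j x hx hx0 hgen.1) (hbase j' x' hx' hx0' hgen.2.1)
    obtain ⟨p, hp, hpj, hpj'⟩ : ∃ p, i ≠ p ∧ C j ≤ C i ⊔ C p ∧ C j' ≤ C i ⊔ C p := by
      by_cases hij : i = j
      · exact ⟨j', hij ▸ hne, hij ▸ le_sup_left, le_sup_right⟩
      by_cases hij' : i = j'
      · exact ⟨j, hij, le_sup_right, hij' ▸ le_sup_left⟩
      exact ⟨j, hij, le_sup_right, by_contra fun hc => hgen ⟨hij, hij', hc⟩⟩
    have hk : ¬ C (out p) ≤ C i ⊔ C p := hout p
    have hik : i ≠ out p := fun e => hk (e ▸ le_sup_left)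
    obtain ⟨u, hu, r⟩ := hval _ hik
    have hkj : out p ≠ j := fun e => hk (e ▸ hpj)
    have hkj' : out p ≠ j' := fun e => hk (e ▸ hpj')
    refine h.key hkj hkj' (fun hle => hk ?_) (hnz _) (hnz0 _) hx hx0 (hf j x hx) hx' hx0'
      (hf j' x' hx')
      (hspec j x hx hx0 _ _ u (fun hle => hk (hle.trans (sup_le le_sup_left hpj))) (hnz _) (hnz0 _)
        hu r)
      (hspec j' x' hx' hx0' _ _ u (fun hle => hk (hle.trans (sup_le le_sup_left hpj')))
        (hnz _) (hnz0 _) hu r)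
    exact (le_sup_left.trans (h.span hkj hne le_sup_right hle)).trans (sup_le hpj hpj')
  have hindep : ∀ j x j' x', x ∈ C j → x ≠ 0 → x' ∈ C j' → x' ≠ 0 → j ≠ j' →
      f (x + x') = f x + f x' := by
    intro j x j' x' hx hx0 hx' hx0' hne
    have hs0 : x + x' ≠ 0 := fun e => hx0 (h.disj hne hx (eq_neg_of_add_eq_zero_left e ▸ neg_mem hx'))
    obtain ⟨l, hl⟩ := h.cover _ hs0
    have hlj : l ≠ j := fun e => hx0' (h.disj hne (by
      have := sub_mem (e ▸ hl : x + x' ∈ C j) hx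
      rwa [add_sub_cancel_left] at this) hx')
    have hlj' : l ≠ j' := fun e => hx0 (h.disj hne hx (by
      have := sub_mem (e ▸ hl : x + x' ∈ C j') hx'
      rwa [add_sub_cancel_right] at this))
    obtain ⟨a, ha, ha'⟩ := hP l _ j x hl hs0 hx hx0 hlj
    obtain ⟨b, hb, hb'⟩ := hP l _ j' x' hl hs0 hx' hx0' hlj'
    rw [add_sub_cancel_left] at ha
    rw [add_sub_cancel_right] at hb
    obtain rfl := h.idx_eq ha hx' hx0'
    obtain rfl := h.idx_eq hb hx hx0
    have d1 := sub_mem ha' (hf _ _ hx')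
    have d2 := sub_mem hb' (hf _ _ hx)
    have e : f (x + x') - f x - f x' = 0 := h.disj hne (by
      rw [sub_right_comm]; exact d2) d1
    rw [sub_sub, sub_eq_zero] at e
    exact e
  have hf0 : f 0 = 0 := by simp [f]
  have hadd : ∀ x x', f (x + x') = f x + f x' := by
    intro x x'
    by_cases hx0 : x = 0
    · simp [hx0, hf0]
    by_cases hx0' : x' = 0
    · simp [hx0', hf0]
    obtain ⟨j, hj⟩ := h.cover x hx0
    obtain ⟨j', hj'⟩ := h.cover x' hx0'
    by_cases hne : j = j'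
    swap
    · exact hindep j x j' x' hj hx0 hj' hx0' hne
    subst hne
    obtain ⟨k, hk⟩ := h.room j j
    have hjk : j ≠ k := fun e => hk (e ▸ le_sup_left)
    obtain ⟨v, hv, hv0⟩ := h.ne_bot k
    have hs : f (x + x' + v) = f (x + x') + f v := by
      by_cases e : x + x' = 0
      · simp [e, hf0]
      · exact hindep j _ k v (add_mem hj hj') e hv hv0 hjk
    have hxv : x' + v ≠ 0 := fun e => hx0' (h.disj hjk hj'
      (eq_neg_of_add_eq_zero_left e ▸ neg_mem hv))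
    obtain ⟨l, hl⟩ := h.cover _ hxv
    have hjl : j ≠ l := fun e => hv0 (h.disj hjk.symm hv (by
      have := sub_mem (e ▸ hl : x' + v ∈ C j) hj'
      rwa [add_sub_cancel_left] at this))
    rw [add_assoc, hindep j x l _ hj hx0 hl hxv hjl, hindep j x' k v hj' hx0' hv hv0 hjk,
      ← add_assoc] at hs
    exact (add_right_cancel hs).symm
  exact ⟨AddMonoidHom.mk' f hadd, hf, hfy⟩

/-- The endomorphisms preserving every member. -/
def kernel (_h : IsPlanes C) : Subring (AddMonoid.End V) where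
  carrier := {f | ∀ j, ∀ x ∈ C j, f x ∈ C j}
  mul_mem' {f g} hf hg j x hx := hf j _ (hg j x hx)
  one_mem' _ _ hx := hx
  add_mem' {f g} hf hg j x hx := add_mem (hf j x hx) (hg j x hx)
  zero_mem' j _ _ := zero_mem (C j)
  neg_mem' {f} hf j x hx := neg_mem (hf j x hx)

theorem mem_kernel {f : AddMonoid.End V} : f ∈ h.kernel ↔ ∀ j, ∀ x ∈ C j, f x ∈ C j := Iff.rfl

theorem kernel_trans {i : ι} {y z : V} (hy : y ∈ C i) (hy0 : y ≠ 0) (hz : z ∈ C i) :
    ∃ f : h.kernel, (f : AddMonoid.End V) y = z := by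
  obtain ⟨f, hf, hfy⟩ := h.exists_endo hy hy0 hz
  exact ⟨⟨f, hf⟩, hfy⟩

theorem kernel_eq_zero {f : AddMonoid.End V} (hf : f ∈ h.kernel) {x : V} (hx0 : x ≠ 0)
    (hfx : f x = 0) : f = 0 := by
  obtain ⟨j, hj⟩ := h.cover x hx0
  have off : ∀ k, j ≠ k → ∀ u ∈ C k, f u = 0 := by
    intro k hjk u hu
    by_cases hu0 : u = 0
    · rw [hu0, map_zero]
    have hs : x + u ≠ 0 := fun e => hx0 (h.disj hjk hj (eq_neg_of_add_eq_zero_left e ▸ neg_mem hu))
    obtain ⟨l, hl⟩ := h.cover _ hs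
    have hlk : l ≠ k := fun e => hx0 (h.disj hjk hj (by
      have := sub_mem (e ▸ hl : x + u ∈ C k) hu
      rwa [add_sub_cancel_right] at this))
    refine h.disj hlk (v := f u) ?_ (hf k u hu)
    have := hf l _ hl
    rwa [map_add, hfx, zero_add] at this
  refine DFunLike.ext _ _ fun v => ?_
  show f v = 0
  by_cases hv0 : v = 0
  · rw [hv0, map_zero]
  obtain ⟨k, hk⟩ := h.cover v hv0
  by_cases hjk : j = k
  swap
  · exact off k hjk v hk
  obtain ⟨m, hm⟩ := h.room j j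
  obtain ⟨u, hu, hu0⟩ := h.ne_bot m
  have hjm : j ≠ m := fun e => hm (e ▸ le_sup_left)
  have hs : v + u ≠ 0 := fun e => hv0 (h.disj hjm (hjk ▸ hk)
    (eq_neg_of_add_eq_zero_left e ▸ neg_mem hu))
  obtain ⟨l, hl⟩ := h.cover _ hs
  have hjl : j ≠ l := fun e => hu0 (h.disj hjm.symm hu (by
    have := sub_mem (e ▸ hl : v + u ∈ C j) (hjk ▸ hk : v ∈ C j)
    rwa [add_sub_cancel_left] at this))
  have := off l hjl _ hl
  rwa [map_add, off m hjm u hu, add_zero] at this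

theorem kernel_isField [Finite V] [Nontrivial V] : IsField h.kernel := by
  have : Finite (AddMonoid.End V) :=
    Finite.of_injective (fun f : AddMonoid.End V => (f : V → V)) DFunLike.coe_injective
  have : Nontrivial h.kernel := by
    obtain ⟨x, hx⟩ := exists_ne (0 : V)
    exact ⟨⟨1, 0, fun e => hx (congrArg (fun f : h.kernel => (f : AddMonoid.End V) x) e)⟩⟩
  have : NoZeroDivisors h.kernel := ⟨fun {f g} e => by
    by_cases hg : g = 0
    · exact Or.inr hg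
    left
    obtain ⟨x, hx⟩ : ∃ x, (g : AddMonoid.End V) x ≠ 0 := by
      by_contra hall
      push Not at hall
      exact hg (Subtype.ext (DFunLike.ext _ _ hall))
    exact Subtype.ext (h.kernel_eq_zero f.2 hx
      (congrArg (fun k : h.kernel => (k : AddMonoid.End V) x) e))⟩
  have : IsDomain h.kernel := NoZeroDivisors.to_isDomain _
  exact Finite.isDomain_to_isField _

end IsPlanes

end Cfsg.Agent.ONanGeom
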