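import Cfsg.Agent.Lib.ONanGeom.Elation
import Cfsg.Agent.Lib.ONanGeom.Kernel
import Cfsg.Agent.Lib.OstromWagner.Coord

/-!
Coordinates when the axis contains three non-collinear points.
-/

set_option autoImplicit false
set_option linter.unusedSectionVars false

namespace Cfsg.Agent.ONanGeom

open scoped LinearAlgebra.Projectivization

universe uG uX

variable {G : Type uG} {X : Type uX} [Group G] [MulAction G X]

namespace Data

/-- The geometry is that of a projective space over a finite field, of dimension at least two. -/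
def Coordinatised (D : Data G X) : Prop :=
  ∃ (F : Type) (_ : Field F) (_ : Fintype F) (n : ℕ) (φ : X ≃ ℙ F (Fin n → F)), 3 ≤ n ∧
    ∀ a b x : X, a ≠ b →
      (x ∈ D.ln a b ↔ (φ x).submodule ≤ (φ a).submodule ⊔ (φ b).submodule)

variable {D : Data G X} {H : Set X} [FaithfulSMul G X]

theorem IsAxis.center_mem (hA : IsAxis D H) {γ : X} (hγ : γ ∈ H) {g : G} (hg : D.IsEl γ H g)
    {P : X} (hP : P ∉ H) {b : X} (hb : b ∈ D.ln P (g • P)) (hbH : b ∈ H) (hg1 : g ≠ 1) : γ = b := by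
  have hne := (hg.free hA.hyp hγ hg1 hP).symm
  have hγP : γ ≠ P := fun e => hP (e ▸ hγ)
  refine hA.hyp.eq_meet hne (D.left_mem hne) hP ?_ hγ hb hbH
  rw [D.eq_of_mem hγP (D.right_mem hγP) (hg.2 P hγP.symm) hne]
  exact D.left_mem hγP

/-- The centre of a product of two elations lies on the line of the centres. -/
theorem IsAxis.center_mem_ln (hA : IsAxis D H) {γ δ ε : X} (hγ : γ ∈ H) (hδ : δ ∈ H) (hε : ε ∈ H)
    (hne : γ ≠ δ) {g h : G} (hg : D.IsEl γ H g) (hh : D.IsEl δ H h) (hg1 : g ≠ 1) (hh1 : h ≠ 1)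
    (hgh : D.IsEl ε H (g * h)) : ε ∈ D.ln γ δ := by
  obtain ⟨P, hP⟩ := hA.hyp.proper
  set R := h • P with hR
  set Q := g • R with hQ
  have hRH : R ∉ H := fun e => hP (by
    have := hh.1 R e
    rw [MulAction.injective h (this.trans hR)] at e; exact e)
  have hQH : Q ∉ H := fun e => hRH (by
    have := hg.1 Q e
    rw [MulAction.injective g (this.trans hQ)] at e; exact e)
  have hδP : δ ≠ P := fun e => hP (e ▸ hδ)
  have hγR : γ ≠ R := fun e => hRH (e ▸ hγ)
  have hRP : R ≠ P := hh.free hA.hyp hδ hh1 hP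
  have hRQ : R ≠ Q := (hg.free hA.hyp hγ hg1 hRH).symm
  have hl1 : D.ln R P = D.ln δ P := D.eq_of_mem hδP (hh.2 P hδP.symm) (D.right_mem hδP) hRP
  have hl2 : D.ln R Q = D.ln γ R := D.eq_of_mem hγR (D.right_mem hγR) (hg.2 R hγR.symm) hRQ
  have hQn : Q ∉ D.ln R P := fun e => hne (by
    have := D.ln_left hRP e hRQ
    rw [hl2, hl1] at this
    exact hA.hyp.eq_meet hγR (D.right_mem hγR) hRH (D.left_mem hγR) hγ
      (this.symm ▸ D.left_mem hδP) hδ)
  obtain ⟨f, hf1, hf2⟩ := D.veblen hRP hQn (hl1.symm ▸ D.left_mem hδP) (fun e => hRH (e ▸ hδ)) hδP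
    (hl2.symm ▸ D.left_mem hγR) hγR (fun e => hQH (e ▸ hγ))
  have hfH : f ∈ H := hA.hyp.sub δ hδ γ hγ hne.symm f hf2
  have hgh1 : g * h ≠ 1 := fun e => mul_free hA.hyp hγ hδ hne hg hh hh1 hP (by rw [e, one_smul])
  rw [hA.center_mem hε hgh hP (by rw [mul_smul]; exact hf1) hfH hgh1, ← D.ln_comm hne]
  exact hf2

/-- An elation splits along two centres collinear with its own. -/
theorem IsAxis.split (hA : IsAxis D H) {γ δ ε : X} (hγ : γ ∈ H) (hδ : δ ∈ H) (hne : γ ≠ δ)
    (hε : ε ∈ D.ln γ δ) {k : G} (hk : D.IsEl ε H k) :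
    ∃ g h, D.IsEl γ H g ∧ D.IsEl δ H h ∧ g * h = k := by
  by_cases hεγ : ε = γ
  · exact ⟨k, 1, hεγ ▸ hk, IsEl.one, mul_one k⟩
  by_cases hεδ : ε = δ
  · exact ⟨1, k, IsEl.one, hεδ ▸ hk, one_mul k⟩
  by_cases hk1 : k = 1
  · exact ⟨1, 1, IsEl.one, IsEl.one, by rw [hk1, one_mul]⟩
  have hεH : ε ∈ H := hA.hyp.sub γ hγ δ hδ hne ε hε
  obtain ⟨P, hP⟩ := hA.hyp.proper
  have hεP : P ≠ ε := fun e => hP (e ▸ hεH)
  have hγl : γ ∈ D.ln ε δ := by
    rw [D.ln_right hne hε hεδ]; exact D.left_mem hne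
  obtain ⟨f, hf, hfl, hfP, hQf⟩ := exists_via hA.hyp hδ hεH hεδ hγl (Ne.symm hεγ) hne hP
    (hk.2 P hεP) (hk.ne hεH hεP) (hk.free hA.hyp hεH hk1 hP)
  obtain ⟨h, -, hh, hhP⟩ := hA.full δ hδ P hP f hfl (fun e => hf (e ▸ hδ))
  have hkP : k • P ∉ H := fun e => hP (by
    have := hk.1 _ e
    rw [MulAction.injective k this] at e; exact e)
  obtain ⟨g, -, hg, hgf⟩ := hA.full γ hγ f hf (k • P) hQf (fun e => hkP (e ▸ hγ))
  exact ⟨g, h, hg, hh, hA.tr_ext (mul_mem (⟨γ, hγ, hg⟩ : g ∈ hA.trGrp) ⟨δ, hδ, hh⟩) ⟨ε, hεH, hk⟩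
    hP (by rw [mul_smul, hhP, hgf])⟩

/-- The commutative group structure of the translation group. -/
@[reducible] def IsAxis.commGroup (hA : IsAxis D H) : CommGroup hA.trGrp :=
  { (inferInstance : Group hA.trGrp) with
    mul_comm := fun a b => Subtype.ext (hA.tr_comm a.2 b.2) }

/-- Coordinates when the axis contains three non-collinear points. -/
theorem coordinatised_of_room [Finite G] (hA : IsAxis D H)
    (hroom : ∀ a ∈ H, ∀ b ∈ H, a ≠ b → ∃ c ∈ H, c ∉ D.ln a b) : Coordinatised D := by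
  classical
  letI := hA.commGroup
  let V := Additive hA.trGrp
  let gv : V → G := fun v => ((Additive.toMul v : hA.trGrp) : G)
  have gv_add : ∀ a b : V, gv (a + b) = gv a * gv b := fun _ _ => rfl
  have gv_zero : gv 0 = 1 := rfl
  have gv_neg : ∀ a : V, gv (-a) = (gv a)⁻¹ := fun _ => rfl
  have gvm : ∀ v, gv v ∈ hA.trGrp := fun v => (Additive.toMul v).2
  have gv_inj : ∀ {a b : V}, gv a = gv b → a = b := fun e =>
    Additive.toMul.injective (Subtype.ext e)
  have gv_surj : ∀ g ∈ hA.trGrp, ∃ v, gv v = g := fun g hg => ⟨Additive.ofMul ⟨g, hg⟩, rfl⟩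
  let C : H → AddSubgroup V := fun γ =>
    { carrier := {v | D.IsEl γ H (gv v)}
      zero_mem' := IsEl.one
      add_mem' := fun {a b} ha hb => by
        show D.IsEl γ H (gv (a + b))
        rw [gv_add]; exact IsEl.mul γ.2 ha hb
      neg_mem' := fun {a} ha => by
        show D.IsEl γ H (gv (-a))
        rw [gv_neg]; exact IsEl.inv γ.2 ha }
  have hgv0 : ∀ {v : V}, v ≠ 0 → gv v ≠ 1 := fun hv e => hv (gv_inj (e.trans gv_zero.symm))
  have sup_iff : ∀ {i j k : H}, i ≠ j → ∀ {v : V}, v ∈ C k → v ≠ 0 →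
      (v ∈ C i ⊔ C j ↔ (k : X) ∈ D.ln i j) := by
    intro i j k hij v hv hv0
    have hij' : (i : X) ≠ j := fun e => hij (Subtype.ext e)
    constructor
    · intro hs
      obtain ⟨a, ha, b, hb, rfl⟩ := AddSubgroup.mem_sup.1 hs
      by_cases ha0 : a = 0
      · rw [ha0, zero_add] at hv hv0
        rw [IsEl.center_eq hA.hyp k.2 j.2 hv hb (hgv0 hv0)]
        exact D.right_mem hij'
      by_cases hb0 : b = 0
      · rw [hb0, add_zero] at hv hv0
        rw [IsEl.center_eq hA.hyp k.2 i.2 hv ha (hgv0 hv0)]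
        exact D.left_mem hij'
      exact hA.center_mem_ln i.2 j.2 k.2 hij' ha hb (hgv0 ha0) (hgv0 hb0) (gv_add a b ▸ hv)
    · intro hk
      obtain ⟨g, h, hg, hh, hgh⟩ := hA.split i.2 j.2 hij' hk hv
      obtain ⟨a, rfl⟩ := gv_surj g ⟨_, i.2, hg⟩
      obtain ⟨b, rfl⟩ := gv_surj h ⟨_, j.2, hh⟩
      exact AddSubgroup.mem_sup.2 ⟨a, hg, b, hh, gv_inj hgh⟩
  have hne_bot : ∀ i : H, ∃ v ∈ C i, v ≠ 0 := by
    intro i
    obtain ⟨g, hg, hg1⟩ := hA.exists_ne_one i.2
    obtain ⟨v, rfl⟩ := gv_surj g ⟨_, i.2, hg⟩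
    exact ⟨v, hg, fun e => hg1 (e ▸ gv_zero)⟩
  have hdisj : ∀ {i j : H}, i ≠ j → ∀ {v : V}, v ∈ C i → v ∈ C j → v = 0 := by
    intro i j hij v hi hj
    by_contra hv
    exact hij (Subtype.ext (IsEl.center_eq hA.hyp i.2 j.2 hi hj (hgv0 hv)))
  have hP' : IsPlanes C :=
    { cover := fun v _ => by
        obtain ⟨γ, hγ, hg⟩ := gvm v
        exact ⟨⟨γ, hγ⟩, hg⟩
      disj := hdisj
      ne_bot := hne_bot
      plane := fun {i j k} hij {v} hv hv0 hs w hw => by
        by_cases hw0 : w = 0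
        · exact hw0 ▸ zero_mem _
        exact (sup_iff hij hw hw0).2 ((sup_iff hij hv hv0).1 hs)
      room := fun i j => by
        by_cases hij : i = j
        · obtain ⟨a, ha, hai⟩ := hA.hyp.exists_ne i
          obtain ⟨v, hv, hv0⟩ := hne_bot ⟨a, ha⟩
          refine ⟨⟨a, ha⟩, fun hle => hv0 (hdisj (fun e => hai (congrArg Subtype.val e)) hv ?_)⟩
          rw [hij, sup_idem] at hle
          exact hij ▸ hle hv
        · obtain ⟨c, hc, hcl⟩ := hroom i i.2 j j.2 fun e => hij (Subtype.ext e)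
          obtain ⟨v, hv, hv0⟩ := hne_bot ⟨c, hc⟩
          exact ⟨⟨c, hc⟩, fun hle => hcl ((sup_iff hij hv hv0).1 (hle hv))⟩ }
  obtain ⟨P₀, hP₀⟩ := hA.hyp.proper
  have hH : Nonempty H := by
    obtain ⟨a, ha, -⟩ := hA.hyp.exists_ne P₀
    exact ⟨⟨a, ha⟩⟩
  have : Nontrivial V := by
    obtain ⟨v, -, hv0⟩ := hne_bot hH.some
    exact ⟨⟨v, 0, hv0⟩⟩
  have : Finite (AddMonoid.End V) :=
    Finite.of_injective (fun f : AddMonoid.End V => (f : V → V)) DFunLike.coe_injective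
  have hKfield := hP'.kernel_isField
  let eK : OstromWagner.FT (Nat.card hP'.kernel) ≃ hP'.kernel :=
    (OstromWagner.ftEquiv _).trans (Finite.equivFin hP'.kernel).symm
  letI : Fintype (OstromWagner.FT (Nat.card hP'.kernel)) :=
    Fintype.ofEquiv _ (OstromWagner.ftEquiv _).symm
  letI : Field hP'.kernel := hKfield.toField
  letI instF : Field (OstromWagner.FT (Nat.card hP'.kernel)) := eK.field
  let F := OstromWagner.FT (Nat.card hP'.kernel)
  let ι : F →+* hP'.kernel :=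
    { toFun := eK
      map_one' := by show eK (eK.symm 1) = 1; rw [Equiv.apply_symm_apply]
      map_zero' := by show eK (eK.symm 0) = 0; rw [Equiv.apply_symm_apply]
      map_mul' := fun a b => by show eK (eK.symm (eK a * eK b)) = _; rw [Equiv.apply_symm_apply]
      map_add' := fun a b => by show eK (eK.symm (eK a + eK b)) = _; rw [Equiv.apply_symm_apply] }
  letI : Module F V := Module.compHom V (hP'.kernel.subtype.comp ι)
  have smul_C : ∀ (c : F) {i : H} {v : V}, v ∈ C i → c • v ∈ C i := fun c i v hv =>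
    (ι c).2 i v hv
  have trans_C : ∀ {i : H} {y z : V}, y ∈ C i → y ≠ 0 → z ∈ C i → ∃ c : F, c • y = z := by
    intro i y z hy hy0 hz
    obtain ⟨f, hf⟩ := hP'.kernel_trans hy hy0 hz
    refine ⟨eK.symm f, ?_⟩
    show ((eK (eK.symm f) : hP'.kernel) : AddMonoid.End V) y = z
    rw [Equiv.apply_symm_apply]; exact hf
  -- representatives
  choose dirv hdirv hdirv0 using hne_bot
  have hsel : ∀ x : X, x ∉ H → ∃ v : V, gv v • P₀ = x := fun x hx => by
    obtain ⟨g, hg, e⟩ := hA.tr_trans hP₀ hx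
    obtain ⟨v, rfl⟩ := gv_surj g hg
    exact ⟨v, e⟩
  choose aff haff using hsel
  have affu : ∀ {x : X} (hx : x ∉ H) {v : V}, gv v • P₀ = x → aff x hx = v := fun {x} hx {v} e =>
    gv_inj (hA.tr_ext (gvm _) (gvm _) hP₀ ((haff x hx).trans e.symm))
  let ρ : X → F × V := fun x => if hx : x ∈ H then (0, dirv ⟨x, hx⟩) else (1, aff x hx)
  have ρH : ∀ {x : X} (hx : x ∈ H), ρ x = (0, dirv ⟨x, hx⟩) := fun hx => dif_pos hx
  have ρA : ∀ {x : X} (hx : x ∉ H), ρ x = (1, aff x hx) := fun hx => dif_neg hx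
  have hρ0 : ∀ x, ρ x ≠ 0 := by
    intro x e
    by_cases hx : x ∈ H
    · rw [ρH hx] at e; exact hdirv0 _ (congrArg Prod.snd e)
    · rw [ρA hx] at e; exact one_ne_zero (congrArg Prod.fst e)
  have hprop : ∀ (c : F) (x y : X), c • ρ x = ρ y → x = y := by
    intro c x y e
    by_cases hx : x ∈ H <;> by_cases hy : y ∈ H
    · rw [ρH hx, ρH hy] at e
      have e2 : c • dirv ⟨x, hx⟩ = dirv ⟨y, hy⟩ := congrArg Prod.snd e
      exact congrArg Subtype.val (hP'.idx_eq (e2 ▸ smul_C c (hdirv _)) (hdirv ⟨y, hy⟩) (hdirv0 _))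
    · rw [ρH hx, ρA hy] at e
      have e1 : c * 0 = 1 := congrArg Prod.fst e
      rw [mul_zero] at e1; exact absurd e1 zero_ne_one
    · rw [ρA hx, ρH hy] at e
      have e1 : c * 1 = 0 := congrArg Prod.fst e
      rw [mul_one] at e1
      have e2 : c • aff x hx = dirv ⟨y, hy⟩ := congrArg Prod.snd e
      rw [e1, zero_smul] at e2
      exact absurd e2.symm (hdirv0 _)
    · rw [ρA hx, ρA hy] at e
      have e1 : c * 1 = 1 := congrArg Prod.fst e
      rw [mul_one] at e1
      have e2 : c • aff x hx = aff y hy := congrArg Prod.snd e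
      rw [e1, one_smul] at e2
      rw [← haff x hx, e2, haff]
  -- lines
  have hln : ∀ a b : X, a ≠ b → ∀ x, x ∈ D.ln a b ↔ ∃ s t : F, s • ρ a + t • ρ b = ρ x := by
    have hHH : ∀ a b : X, a ≠ b → a ∈ H → b ∈ H → ∀ x,
        x ∈ D.ln a b ↔ ∃ s t : F, s • ρ a + t • ρ b = ρ x := by
      intro a b hab ha hb x
      have hab' : (⟨a, ha⟩ : H) ≠ ⟨b, hb⟩ := fun e => hab (congrArg Subtype.val e)
      constructor
      · intro hx
        have hxH := hA.hyp.sub a ha b hb hab x hx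
        obtain ⟨u, hu, w, hw, e⟩ := AddSubgroup.mem_sup.1
          ((sup_iff hab' (hdirv ⟨x, hxH⟩) (hdirv0 _)).2 hx)
        obtain ⟨s, hs⟩ := trans_C (hdirv ⟨a, ha⟩) (hdirv0 _) hu
        obtain ⟨t, ht⟩ := trans_C (hdirv ⟨b, hb⟩) (hdirv0 _) hw
        refine ⟨s, t, ?_⟩
        rw [ρH ha, ρH hb, ρH hxH, Prod.smul_mk, Prod.smul_mk, Prod.mk_add_mk, smul_zero, smul_zero,
          add_zero, hs, ht, e]
      · rintro ⟨s, t, e⟩
        rw [ρH ha, ρH hb, Prod.smul_mk, Prod.smul_mk, Prod.mk_add_mk, smul_zero, smul_zero,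
          add_zero] at e
        by_cases hxH : x ∈ H
        · rw [ρH hxH] at e
          exact (sup_iff hab' (hdirv ⟨x, hxH⟩) (hdirv0 _)).1 (AddSubgroup.mem_sup.2
            ⟨_, smul_C s (hdirv _), _, smul_C t (hdirv _), congrArg Prod.snd e⟩)
        · rw [ρA hxH] at e
          exact absurd (congrArg Prod.fst e) zero_ne_one
    have hAH : ∀ a b : X, a ∉ H → b ∈ H → ∀ x,
        x ∈ D.ln a b ↔ ∃ s t : F, s • ρ a + t • ρ b = ρ x := by
      intro a b ha hb x
      have hba : b ≠ a := fun e => ha (e ▸ hb)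
      rw [D.ln_comm hba]
      constructor
      · intro hx
        by_cases hxH : x ∈ H
        · refine ⟨0, 1, ?_⟩
          rw [hA.hyp.eq_meet hba (D.right_mem hba) ha hx hxH (D.left_mem hba) hb, zero_smul,
            one_smul, zero_add]
        obtain ⟨g, -, hg, hga⟩ := hA.full b hb a ha x hx (fun e => hxH (e ▸ hb))
        obtain ⟨w, rfl⟩ := gv_surj g ⟨b, hb, hg⟩
        obtain ⟨t, ht⟩ := trans_C (i := ⟨b, hb⟩) (hdirv _) (hdirv0 _) hg
        have e : aff x hxH = w + aff a ha := affu hxH (by rw [gv_add, mul_smul, haff, hga])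
        refine ⟨1, t, ?_⟩
        rw [ρA ha, ρH hb, ρA hxH, one_smul, Prod.smul_mk, Prod.mk_add_mk, smul_zero, add_zero, ht,
          e, add_comm]
      · rintro ⟨s, t, e⟩
        rw [ρA ha, ρH hb, Prod.smul_mk, Prod.smul_mk, Prod.mk_add_mk, smul_zero, add_zero,
          smul_eq_mul, mul_one] at e
        by_cases hxH : x ∈ H
        · rw [ρH hxH] at e
          obtain rfl : s = 0 := congrArg Prod.fst e
          have e2 : (0 : F) • aff a ha + t • dirv ⟨b, hb⟩ = dirv ⟨x, hxH⟩ := congrArg Prod.snd e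
          rw [zero_smul, zero_add] at e2
          rw [← hprop t b x (by rw [ρH hb, ρH hxH, Prod.smul_mk, smul_zero, e2])]
          exact D.left_mem hba
        · rw [ρA hxH] at e
          obtain rfl : s = 1 := congrArg Prod.fst e
          have e2 : (1 : F) • aff a ha + t • dirv ⟨b, hb⟩ = aff x hxH := congrArg Prod.snd e
          rw [one_smul] at e2
          have hel : D.IsEl b H (gv (t • dirv ⟨b, hb⟩)) := smul_C t (hdirv ⟨b, hb⟩)
          have := hel.2 a hba.symm
          rwa [← haff a ha, ← mul_smul, ← gv_add, add_comm, e2, haff, haff] at this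
    intro a b hab x
    by_cases ha : a ∈ H <;> by_cases hb : b ∈ H
    · exact hHH a b hab ha hb x
    · rw [D.ln_comm hab.symm, hAH b a hb ha x]
      exact ⟨fun ⟨s, t, e⟩ => ⟨t, s, by rw [add_comm]; exact e⟩,
        fun ⟨s, t, e⟩ => ⟨t, s, by rw [add_comm]; exact e⟩⟩
    · exact hAH a b ha hb x
    · obtain ⟨c, hc, hcH⟩ := hA.hyp.meets hab
      have hac : a ≠ c := fun e => ha (e ▸ hcH)
      rw [← D.ln_left hab hc hac, hAH a c ha hcH x]
      obtain ⟨s, t, e⟩ := (hAH a c ha hcH b).1 ((D.ln_left hab hc hac).symm ▸ D.right_mem hab)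
      have ht : t ≠ 0 := fun ht => hab (hprop s a b (by rwa [ht, zero_smul, add_zero] at e))
      constructor
      · rintro ⟨s', t', e'⟩
        refine ⟨s' - t' * t⁻¹ * s, t' * t⁻¹, ?_⟩
        rw [← e, smul_add, ← mul_smul, ← mul_smul, ← add_assoc, ← add_smul, sub_add_cancel,
          inv_mul_cancel_right₀ ht]
        exact e'
      · rintro ⟨s', t', e'⟩
        refine ⟨s' + t' * s, t' * t, ?_⟩
        rw [← e', ← e, smul_add, ← mul_smul, ← mul_smul, ← add_assoc, add_smul]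
  -- transport
  have : Module.Finite F V := Module.Finite.of_finite
  let n := Module.finrank F (F × V)
  let e : (F × V) ≃ₗ[F] (Fin n → F) := (Module.finBasis F (F × V)).equivFun
  have he0 : ∀ x, e (ρ x) ≠ 0 := fun x h => hρ0 x (e.map_eq_zero_iff.1 h)
  let f : X → ℙ F (Fin n → F) := fun x => Projectivization.mk F (e (ρ x)) (he0 x)
  have hbij : Function.Bijective f := by
    constructor
    · intro x y hxy
      obtain ⟨c, hc⟩ := (Projectivization.mk_eq_mk_iff' F _ _ (he0 x) (he0 y)).1 hxy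
      rw [← e.map_smul] at hc
      exact (hprop c y x (e.injective hc)).symm
    · intro p
      induction p using Projectivization.ind with
      | _ w hw =>
        obtain ⟨⟨c, v⟩, rfl⟩ := e.surjective w
        suffices h : ∃ (x : X) (a : F), a • (c, v) = ρ x by
          obtain ⟨x, a, ha⟩ := h
          exact ⟨x, (Projectivization.mk_eq_mk_iff' F _ _ _ _).2
            ⟨a, by rw [← e.map_smul, ha]⟩⟩
        by_cases hc : c = 0
        · subst hc
          have hv : v ≠ 0 := fun hv => hw (by rw [hv]; exact map_zero e)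
          obtain ⟨i, hi⟩ := hP'.cover v hv
          obtain ⟨a, ha⟩ := trans_C hi hv (hdirv i)
          exact ⟨i, a, by rw [ρH i.2, Prod.smul_mk, smul_zero, ha]⟩
        · refine ⟨gv (c⁻¹ • v) • P₀, c⁻¹, ?_⟩
          have hx : gv (c⁻¹ • v) • P₀ ∉ H := fun hh => hP₀ (by
            have := hA.tr_fix (gvm (c⁻¹ • v)) hh
            rw [MulAction.injective _ this] at hh; exact hh)
          rw [ρA hx, affu hx rfl, Prod.smul_mk, smul_eq_mul, inv_mul_cancel₀ hc]
  refine ⟨F, inferInstance, inferInstance, n, Equiv.ofBijective f hbij, ?_, fun a b x hab => ?_⟩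
  · show 3 ≤ Module.finrank F (F × V)
    rw [Module.finrank_prod, Module.finrank_self]
    by_contra hlt
    have hle : Module.finrank F V ≤ 1 := by omega
    obtain ⟨v, hv⟩ := finrank_le_one_iff.1 hle
    obtain ⟨i⟩ := hH
    obtain ⟨a, ha, hai⟩ := hA.hyp.exists_ne i
    obtain ⟨c, hc⟩ := hv (dirv i)
    obtain ⟨d, hd⟩ := hv (dirv ⟨a, ha⟩)
    have hc0 : c ≠ 0 := fun h => hdirv0 i (by rw [← hc, h, zero_smul])
    refine hai (congrArg Subtype.val (hP'.idx_eq (hdirv ⟨a, ha⟩) ?_ (hdirv0 _)) : a = (i : X))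
    have hvd : v = c⁻¹ • dirv i := by rw [← hc, inv_smul_smul₀ hc0]
    rw [← hd, hvd]
    exact smul_C d (smul_C c⁻¹ (hdirv i))
  · rw [hln a b hab x]
    simp only [Equiv.ofBijective_apply, f, Projectivization.submodule_mk,
      Submodule.span_singleton_le_iff_mem, Submodule.mem_sup, Submodule.mem_span_singleton]
    constructor
    · rintro ⟨s, t, h⟩
      exact ⟨_, ⟨s, rfl⟩, _, ⟨t, rfl⟩, by rw [← e.map_smul, ← e.map_smul, ← map_add, h]⟩
    · rintro ⟨_, ⟨s, rfl⟩, _, ⟨t, rfl⟩, h⟩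
      exact ⟨s, t, e.injective (by rw [map_add, e.map_smul, e.map_smul]; exact h)⟩

end Data

end Cfsg.Agent.ONanGeom
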