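import Mathlib

/-!
The geometric data met at the end of O'Nan's theorem: a linear space satisfying the Veblen axiom,
with a 2-transitive group and, at every point, a group of elations with that centre.
-/

set_option autoImplicit false

namespace Cfsg.Agent.ONanGeom

universe uG uX

/-- A thick projective space on `X` with a group of elations at every point. -/
structure Data (G : Type uG) (X : Type uX) [Group G] [MulAction G X] where
  /-- the line through two points (only used for distinct points) -/
  ln : X → X → Set X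
  /-- the elation group with given centre -/
  T : X → Subgroup G
  left_mem : ∀ {a b : X}, a ≠ b → a ∈ ln a b
  right_mem : ∀ {a b : X}, a ≠ b → b ∈ ln a b
  eq_of_mem : ∀ {a b c d : X}, a ≠ b → c ∈ ln a b → d ∈ ln a b → c ≠ d → ln c d = ln a b
  thick : ∀ {a b : X}, a ≠ b → ∃ c ∈ ln a b, c ≠ a ∧ c ≠ b
  noncollinear : ∃ a b c : X, a ≠ b ∧ c ∉ ln a b
  /-- a line meeting two sides of a triangle away from their common point meets the third -/
  veblen : ∀ {a b c d e : X}, a ≠ b → c ∉ ln a b → d ∈ ln a b → d ≠ a → d ≠ b →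
    e ∈ ln a c → e ≠ a → e ≠ c → ∃ f ∈ ln b c, f ∈ ln d e
  smul_mem : ∀ (g : G) {a b x : X}, a ≠ b → x ∈ ln a b → g • x ∈ ln (g • a) (g • b)
  conj : ∀ (g : G) {a : X} {t : G}, t ∈ T a → g * t * g⁻¹ ∈ T (g • a)
  fix_center : ∀ {a : X} {t : G}, t ∈ T a → t • a = a
  central : ∀ {a b : X} {t : G}, t ∈ T a → b ≠ a → t • b ∈ ln a b
  trans : ∀ {a b c : X}, b ≠ a → c ∈ ln a b → c ≠ a → ∃ t ∈ T a, t • b = c
  /-- an element fixing a second point fixes the line through the centre pointwise -/
  fix_line : ∀ {a b x : X} {t : G}, t ∈ T a → b ≠ a → t • b = b → x ∈ ln a b → t • x = x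
  /-- the fixed points of an elation meet every line -/
  axis : ∀ {a b c : X} {t : G}, t ∈ T a → b ≠ c → ∃ f ∈ ln b c, t • f = f

end Cfsg.Agent.ONanGeom
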