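import Cfsg.Agent.Lib.ONanGeom.Space

/-!
Elations of a geometry: uniqueness, fullness along the axis of any elation of `D.T`, and the
translation group of such an axis.
-/

set_option autoImplicit false
set_option linter.unusedSectionVars false

namespace Cfsg.Agent.ONanGeom

universe uG uX

variable {G : Type uG} {X : Type uX} [Group G] [MulAction G X]

/-- `G` is transitive on ordered pairs of distinct points. -/
def TwoTrans (G : Type uG) (X : Type uX) [Group G] [MulAction G X] : Prop :=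
  ∀ a b c d : X, a ≠ b → c ≠ d → ∃ g : G, g • a = c ∧ g • b = d

namespace Data

variable (D : Data G X)

/-- `g` is an elation or identity with centre `γ` and axis `H`. -/
def IsEl (γ : X) (H : Set X) (g : G) : Prop :=
  (∀ x ∈ H, g • x = x) ∧ ∀ x, x ≠ γ → g • x ∈ D.ln γ x

/-- The group generated by all the given elation groups. -/
def tGrp : Subgroup G := Subgroup.closure {t | ∃ a, t ∈ D.T a}

theorem T_le_tGrp {a : X} {t : G} (ht : t ∈ D.T a) : t ∈ D.tGrp :=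
  Subgroup.subset_closure ⟨a, ht⟩

theorem isEl_of_T {a : X} {t : G} (ht : t ∈ D.T a) : D.IsEl a (fixSet t) t :=
  ⟨fun _ hx => hx, fun _ hx => D.central ht hx⟩

variable {D}
variable {H : Set X} {γ δ : X}

theorem IsEl.one : D.IsEl γ H (1 : G) :=
  ⟨fun _ _ => one_smul _ _, fun x hx => by rw [one_smul]; exact D.right_mem hx.symm⟩

theorem IsEl.fix_center (hγ : γ ∈ H) {g : G} (hg : D.IsEl γ H g) : g • γ = γ := hg.1 γ hγ

theorem IsEl.ne (hγ : γ ∈ H) {g : G} (hg : D.IsEl γ H g) {x : X} (hx : x ≠ γ) : g • x ≠ γ :=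
  fun e => hx (MulAction.injective g (e.trans (hg.fix_center hγ).symm))

theorem IsEl.mul (hγ : γ ∈ H) {g g' : G} (hg : D.IsEl γ H g) (hg' : D.IsEl γ H g') :
    D.IsEl γ H (g * g') := by
  refine ⟨fun x hx => by rw [mul_smul, hg'.1 x hx, hg.1 x hx], fun x hx => ?_⟩
  rw [mul_smul]
  have h1 := hg'.2 x hx
  have hne := hg'.ne hγ hx
  exact D.ln_left hx.symm h1 hne.symm ▸ hg.2 _ hne

theorem IsEl.inv (hγ : γ ∈ H) {g : G} (hg : D.IsEl γ H g) : D.IsEl γ H g⁻¹ := by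
  refine ⟨fun x hx => inv_smul_eq_iff.2 (hg.1 x hx).symm, fun x hx => ?_⟩
  have hy : g⁻¹ • x ≠ γ := fun e => hx (by
    rw [← smul_inv_smul g x, e, hg.fix_center hγ])
  have h1 := hg.2 _ hy
  rw [smul_inv_smul] at h1
  exact (D.ln_left hy.symm h1 hx.symm).symm ▸ D.right_mem hy.symm

theorem IsEl.conj {g k : G} (hg : D.IsEl δ H g) (hk : ∀ x ∈ H, k • x = x) (hδ : δ ∈ H) :
    D.IsEl δ H (k * g * k⁻¹) := by
  refine ⟨fun x hx => ?_, fun x hx => ?_⟩
  · rw [mul_smul, mul_smul, inv_smul_eq_iff.2 (hk x hx).symm, hg.1 x hx, hk x hx]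
  · have hy : k⁻¹ • x ≠ δ := fun e => hx (by rw [← smul_inv_smul k x, e, hk δ hδ])
    have := D.smul_mem k hy.symm (hg.2 _ hy)
    rwa [hk δ hδ, smul_inv_smul, ← mul_smul, ← mul_smul] at this

variable [FaithfulSMul G X]

/-- An elation fixing a point off its axis is trivial. -/
theorem IsEl.eq_one (hH : D.IsHyp H) (hγ : γ ∈ H) {g : G} (hg : D.IsEl γ H g) {P : X} (hP : P ∉ H)
    (hgP : g • P = P) : g = 1 := by
  have step : ∀ P : X, P ∉ H → g • P = P → ∀ x, x ∉ H → x ∉ D.ln γ P → g • x = x := by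
    intro P hP hgP x hxH hx
    have hγP : γ ≠ P := fun e => hP (e ▸ hγ)
    have hxP : x ≠ P := fun e => hx (by rw [e]; exact D.right_mem hγP)
    have hxγ : x ≠ γ := fun e => hxH (e ▸ hγ)
    obtain ⟨y, hy, hyH⟩ := hH.meets hxP
    have h1 : g • x ∈ D.ln x P := by
      by_cases hyx : y = x
      · exact absurd (hyx ▸ hyH) hxH
      · have hxy : x ∈ D.ln y P := by
          rw [D.ln_right hxP hy (fun e => hP (e ▸ hyH))]; exact D.left_mem hxP
        have h' := D.smul_mem g (fun e : y = P => hP (e ▸ hyH)) hxy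
        rw [hg.1 y hyH, hgP, D.ln_right hxP hy (fun e => hP (e ▸ hyH))] at h'
        exact h'
    refine D.meet_unique hxP hxγ.symm (fun e => hx ?_) h1 (hg.2 x hxγ) (D.left_mem hxP)
      (D.right_mem hxγ.symm)
    have hγl : γ ∈ D.ln x P := e.symm ▸ D.left_mem hxγ.symm
    exact (D.ln_right hxP hγl hγP).symm ▸ D.left_mem hxP
  refine eq_of_smul_eq_smul fun x : X => ?_
  rw [one_smul]
  by_cases hxH : x ∈ H
  · exact hg.1 x hxH
  by_cases hx : x ∈ D.ln γ P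
  swap
  · exact step P hP hgP x hxH hx
  have hγP : γ ≠ P := fun e => hP (e ▸ hγ)
  obtain ⟨w, hwH, hw⟩ := hH.exists_off hγP
  have hγw : γ ≠ w := fun e => hwH (e ▸ hγ)
  refine step w hwH (step P hP hgP w hwH hw) x hxH fun h => hw ?_
  rw [D.line_eq hγP hγw (fun e : γ = x => hxH (e ▸ hγ)) (D.left_mem hγP) hx (D.left_mem hγw) h]
  exact D.right_mem hγw

/-- An elation is determined by the image of one point. -/
theorem IsEl.ext (hH : D.IsHyp H) (hγ : γ ∈ H) {g g' : G} (hg : D.IsEl γ H g)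
    (hg' : D.IsEl γ H g') {P : X} (hP : P ∉ H) (h : g • P = g' • P) : g = g' :=
  (inv_mul_eq_one.1 (((hg'.inv hγ).mul hγ hg).eq_one hH hγ hP
    (by rw [mul_smul, h, inv_smul_smul]))).symm

theorem IsEl.free (hH : D.IsHyp H) (hγ : γ ∈ H) {g : G} (hg : D.IsEl γ H g) (hg1 : g ≠ 1)
    {x : X} (hx : x ∉ H) : g • x ≠ x := fun e => hg1 (hg.eq_one hH hγ hx e)

/-- A collineation with an axis and without further fixed points is central. -/
theorem axial_central (hH : D.IsHyp H) {g : G} (hfix : ∀ x ∈ H, g • x = x)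
    (hfree : ∀ x, x ∉ H → g • x ≠ x) {P b : X} (hP : P ∉ H) (hb : b ∈ D.ln P (g • P))
    (hbH : b ∈ H) : D.IsEl b H g := by
  refine ⟨hfix, fun x hxb => ?_⟩
  by_cases hxH : x ∈ H
  · rw [hfix x hxH]; exact D.right_mem hxb.symm
  have hPQ : P ≠ g • P := (hfree P hP).symm
  have hQH : g • P ∉ H := fun h => hfree P hP (MulAction.injective g (hfix _ h))
  have hbP : b ≠ P := fun e => hP (e ▸ hbH)
  have hl : D.ln b P = D.ln P (g • P) := by
    rw [D.ln_comm hbP.symm]; exact D.ln_left hPQ hb hbP.symm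
  by_cases hxl : x ∈ D.ln b P
  · have h1 := D.smul_mem g hbP hxl
    rw [hfix b hbH] at h1
    have h2 : g • P ∈ D.ln b P := hl.symm ▸ D.right_mem hPQ
    rw [D.ln_left hbP h2 (fun e => hQH (e ▸ hbH))] at h1
    rwa [D.ln_left hbP hxl hxb.symm]
  have hxP : x ≠ P := fun e => hxl (by rw [e]; exact D.right_mem hbP)
  obtain ⟨y, hy, hyH⟩ := hH.meets hxP
  have hyP : y ≠ P := fun e => hP (e ▸ hyH)
  have hyQ : y ≠ g • P := fun e => hQH (e ▸ hyH)
  have hxy : x ∈ D.ln y P := by rw [D.ln_right hxP hy hyP]; exact D.left_mem hxP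
  have hgx : g • x ∈ D.ln y (g • P) := by
    have := D.smul_mem g hyP hxy
    rwa [hfix y hyH] at this
  have hQy : g • P ∉ D.ln y P := fun h => hxl (by
    rw [hl, ← D.line_eq hyP hPQ hPQ (D.right_mem hyP) h (D.left_mem hPQ) (D.right_mem hPQ)]
    exact hxy)
  have hxne : x ≠ g • x := (hfree x hxH).symm
  obtain ⟨f, hf1, hf2⟩ := D.veblen hyP hQy hxy (fun e => hxH (e ▸ hyH)) hxP hgx
    (fun e => hxH (by rwa [MulAction.injective g (e.trans (hfix y hyH).symm)]))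
    (fun e => hxP (MulAction.injective g e))
  obtain ⟨h, hh, hhH⟩ := hH.meets hxne
  have hxh : x ≠ h := fun e => hxH (e ▸ hhH)
  have hgxH : g • x ∉ H := fun e => hfree x hxH (MulAction.injective g (hfix _ e))
  have hgxh : g • x ≠ h := fun e => hgxH (e ▸ hhH)
  have hlx : D.ln (g • x) h = D.ln x (g • x) :=
    D.eq_of_mem hxne (D.right_mem hxne) hh hgxh
  have hff : g • f = f := by
    have e1 : g • f ∈ D.ln P (g • P) := by
      have := D.smul_mem g hbP (hl.symm ▸ hf1)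
      rw [hfix b hbH, D.ln_left hbP (hl.symm ▸ D.right_mem hPQ : g • P ∈ D.ln b P)
        (fun e => hQH (e ▸ hbH)), hl] at this
      exact this
    have e2 : g • f ∈ D.ln x (g • x) := by
      have hf3 : f ∈ D.ln x h := (D.ln_left hxne hh hxh).symm ▸ hf2
      have := D.smul_mem g hxh hf3
      rwa [hfix h hhH, hlx] at this
    exact D.meet_unique hPQ hxne (fun e => hxl (hl ▸ e.symm ▸ D.left_mem hxne)) e1 e2 hf1 hf2
  have hfH : f ∈ H := by_contra fun hf => hfree f hf hff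
  have hfb : f = b := hH.eq_meet hPQ (D.left_mem hPQ) hP hf1 hfH hb hbH
  subst hfb
  rw [D.eq_of_mem hxne hf2 (D.left_mem hxne) hxb.symm]
  exact D.right_mem hxne

/-- Two centres on the axis of a nontrivial elation coincide. -/
theorem IsEl.center_eq (hH : D.IsHyp H) (hγ : γ ∈ H) (hδ : δ ∈ H) {g : G} (hg : D.IsEl γ H g)
    (hg' : D.IsEl δ H g) (hg1 : g ≠ 1) : γ = δ := by
  by_contra hne
  exact hg1 (D.eq_one_of_two_centres hne hg.2 hg'.2)

/-- The product of two elations with different centres moves every point off the axis. -/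
theorem mul_free (hH : D.IsHyp H) (hγ : γ ∈ H) (hδ : δ ∈ H) (hne : γ ≠ δ) {g h : G}
    (hg : D.IsEl γ H g) (hh : D.IsEl δ H h) (hh1 : h ≠ 1) {x : X} (hx : x ∉ H) :
    (g * h) • x ≠ x := by
  intro e
  rw [mul_smul] at e
  have hxγ : x ≠ γ := fun e' => hx (e' ▸ hγ)
  have hxδ : x ≠ δ := fun e' => hx (e' ▸ hδ)
  have h1 := hh.2 x hxδ
  have h2 : h • x ∈ D.ln γ x := by
    have := (hg.inv hγ).2 x hxγ
    rwa [inv_smul_eq_iff.2 e.symm] at this
  refine hh.free hH hδ hh1 hx (D.meet_unique hxγ.symm hxδ.symm (fun e' => hne ?_) h2 h1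
    (D.right_mem hxγ.symm) (D.right_mem hxδ.symm))
  exact hH.eq_meet hxγ.symm (D.right_mem hxγ.symm) hx (D.left_mem hxγ.symm) hγ
    (e'.symm ▸ D.left_mem hxδ.symm) hδ

/-- The auxiliary point of a configuration. -/
theorem exists_via (hH : D.IsHyp H) {a a' b P Q : X} (ha : a ∈ H) (hb : b ∈ H) (hab : b ≠ a)
    (ha' : a' ∈ D.ln b a) (ha'b : a' ≠ b) (ha'a : a' ≠ a) (hP : P ∉ H) (hQ : Q ∈ D.ln b P)
    (hQb : Q ≠ b) (hQP : Q ≠ P) :
    ∃ f, f ∉ H ∧ f ∈ D.ln a P ∧ f ≠ P ∧ Q ∈ D.ln a' f := by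
  have hsub : ∀ x ∈ D.ln b a, x ∈ H := hH.sub b hb a ha hab
  have hbP : b ≠ P := fun e => hP (e ▸ hb)
  have hQH : Q ∉ H := fun h => hP
    (hH.sub b hb Q h hQb.symm P ((D.ln_left hbP hQ hQb.symm).symm ▸ D.right_mem hbP))
  have haP : a ≠ P := fun e => hP (e ▸ ha)
  have ha'H := hsub a' ha'
  have ha'Q : a' ≠ Q := fun e => hQH (e ▸ ha'H)
  obtain ⟨f, hf1, hf2⟩ := D.veblen hab (fun h => hP (hsub P h)) ha' ha'b ha'a hQ hQb hQP
  have hfH : f ∉ H := by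
    intro h
    have h1 : f = a := hH.eq_meet haP (D.right_mem haP) hP hf1 h (D.left_mem haP) ha
    have h2 : f = a' := hH.eq_meet ha'Q (D.right_mem ha'Q) hQH hf2 h (D.left_mem ha'Q) ha'H
    exact ha'a (h2.symm.trans h1)
  refine ⟨f, hfH, hf1, fun e => ha'b ?_, ?_⟩
  · subst e
    have h3 : f ∈ D.ln b f := D.right_mem hbP
    have h4 := D.line_eq hbP ha'Q hQP (hQ) h3 (D.right_mem ha'Q) hf2
    exact hH.eq_meet ha'Q (D.right_mem ha'Q) hQH (D.left_mem ha'Q) ha'H (h4 ▸ D.left_mem hbP) hb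
  · have ha'f : a' ≠ f := fun e => hfH (e ▸ ha'H)
    rw [D.ln_left ha'Q hf2 ha'f]
    exact D.right_mem ha'Q

/-- `(γ, H)` carries all possible elations, inside the generated group. -/
def Full (D : Data G X) (γ : X) (H : Set X) : Prop :=
  ∀ P, P ∉ H → ∀ Q ∈ D.ln γ P, Q ≠ γ → ∃ g ∈ D.tGrp, D.IsEl γ H g ∧ g • P = Q

omit [FaithfulSMul G X] in
theorem card_ln_eq [Finite X] (h2 : TwoTrans G X) {a b c d : X} (hab : a ≠ b) (hcd : c ≠ d) :
    (D.ln a b).ncard = (D.ln c d).ncard := by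
  obtain ⟨g, rfl, rfl⟩ := h2 a b c d hab hcd
  rw [← Set.ncard_image_of_injective _ (MulAction.injective g)]
  congr 1
  ext x
  refine ⟨?_, fun hx => ⟨g⁻¹ • x, ?_, smul_inv_smul g x⟩⟩
  · rintro ⟨y, hy, rfl⟩; exact D.smul_mem g hab hy
  · exact D.mem_smul g hab (by rwa [smul_inv_smul])

theorem full_off_center [Finite X] (h2 : TwoTrans G X) {a b : X} {s : G} (hs : s ∈ D.T b)
    (hs1 : s ≠ 1) (hab : a ≠ b) (ha : s • a = a) : Full D a (fixSet (X := X) s) := by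
  classical
  set H : Set X := fixSet s with hHdef
  have hH : D.IsHyp H := D.fixSet_isHyp hs hs1
  have haH : a ∈ H := ha
  intro P hP Q hQ hQa
  have haP : a ≠ P := fun e => hP (e ▸ haH)
  -- the commutators
  have hc : ∀ t ∈ D.T a, t * s⁻¹ * t⁻¹ * s ∈ D.T a ∧ D.IsEl a H (t * s⁻¹ * t⁻¹ * s) := by
    intro t ht
    have h1 : t * s⁻¹ * t⁻¹ * s ∈ D.T a := by
      have := D.conj s⁻¹ (inv_mem ht)
      rw [inv_smul_eq_iff.2 ha.symm, inv_inv] at this
      have := mul_mem ht this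
      rwa [← mul_assoc, ← mul_assoc] at this
    refine ⟨h1, fun x hx => ?_, fun x hx => D.central h1 hx⟩
    have hx' : t⁻¹ • x ∈ H := by
      by_cases hxa : x = a
      · subst hxa
        rwa [inv_smul_eq_iff.2 (D.fix_center ht).symm]
      · exact hH.sub a haH x hx (Ne.symm hxa) _ (D.central (inv_mem ht) hxa)
    rw [mul_smul, mul_smul, mul_smul, (hx : s • x = x), inv_smul_eq_iff.2 hx'.symm,
      smul_inv_smul]
  have hsel : ∀ y : {y // y ∈ D.ln a b ∧ y ≠ a}, ∃ t ∈ D.T a, t • b = y := fun y =>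
    D.trans hab.symm y.2.1 y.2.2
  choose τ hτ hτb using hsel
  have hne : ∀ y, (τ y * s⁻¹ * (τ y)⁻¹ * s) • P ≠ a := fun y =>
    (hc _ (hτ y)).2.ne haH haP.symm
  let f : {y // y ∈ D.ln a b ∧ y ≠ a} → {z // z ∈ D.ln a P ∧ z ≠ a} := fun y =>
    ⟨(τ y * s⁻¹ * (τ y)⁻¹ * s) • P, (hc _ (hτ y)).2.2 P haP.symm, hne y⟩
  have hinj : Function.Injective f := by
    intro y y' e
    have e1 := (hc _ (hτ y)).2.ext hH haH (hc _ (hτ y')).2 hP (congrArg Subtype.val e)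
    have e2 : τ y * s⁻¹ * (τ y)⁻¹ = τ y' * s⁻¹ * (τ y')⁻¹ := mul_right_cancel e1
    have k1 := D.conj (τ y) (inv_mem hs)
    have k2 := D.conj (τ y') (inv_mem hs)
    rw [hτb] at k1 k2
    by_contra hne'
    have := D.eq_one_of_two_centres (g := τ y * s⁻¹ * (τ y)⁻¹)
      (fun h : (y : X) = y' => hne' (Subtype.ext h)) (fun x hx => D.central k1 hx)
      (fun x hx => e2 ▸ D.central k2 hx)
    exact hs1 (inv_eq_one.1 (conj_eq_one_iff.1 this))
  have hcard : Nat.card {y // y ∈ D.ln a b ∧ y ≠ a} = Nat.card {z // z ∈ D.ln a P ∧ z ≠ a} := by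
    have e : ∀ c : X, {y // y ∈ D.ln a c ∧ y ≠ a} = {y // y ∈ D.ln a c \ {a}} := fun c => by
      simp only [Set.mem_diff, Set.mem_singleton_iff]
    rw [e, e, Nat.card_coe_set_eq, Nat.card_coe_set_eq,
      Set.ncard_diff_singleton_of_mem (D.left_mem hab),
      Set.ncard_diff_singleton_of_mem (D.left_mem haP), card_ln_eq h2 hab haP]
  obtain ⟨y, hy⟩ := ((Nat.bijective_iff_injective_and_card f).2 ⟨hinj, hcard⟩).2 ⟨Q, hQ, hQa⟩
  exact ⟨_, D.T_le_tGrp (hc _ (hτ y)).1, (hc _ (hτ y)).2, congrArg Subtype.val hy⟩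

/-- Every centre on the axis of an elation of `D.T` is full. -/
theorem full_axis [Finite X] (h2 : TwoTrans G X) {b : X} {s : G} (hs : s ∈ D.T b) (hs1 : s ≠ 1)
    {c : X} (hc : c ∈ fixSet s) : Full D c (fixSet s) := by
  by_cases hcb : c = b
  swap
  · exact full_off_center h2 hs hs1 hcb hc
  subst hcb
  set H : Set X := fixSet s with hHdef
  have hH : D.IsHyp H := D.fixSet_isHyp hs hs1
  intro P hP Q hQ hQb
  by_cases hQP : Q = P
  · exact ⟨1, one_mem _, IsEl.one, by rw [one_smul, hQP]⟩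
  obtain ⟨a, haH, hab⟩ := hH.exists_ne c
  obtain ⟨a', ha', ha'c, ha'a⟩ := D.thick hab.symm
  have ha'H : a' ∈ H := hH.sub c hc a haH hab.symm a' ha'
  obtain ⟨f, hf, hfl, hfP, hQf⟩ := exists_via hH haH hc hab.symm ha' ha'c ha'a hP hQ hQb hQP
  have hfa : f ≠ a := fun e => hf (e ▸ haH)
  have hQa' : Q ≠ a' := by
    intro e
    have hcP : c ≠ P := fun e' => hP (e' ▸ hc)
    exact hP (hH.sub c hc a' ha'H ha'c.symm P
      ((D.ln_left hcP (e ▸ hQ) ha'c.symm).symm ▸ D.right_mem hcP))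
  obtain ⟨g₁, hg₁L, hg₁, hg₁P⟩ := full_off_center h2 hs hs1 hab haH P hP f hfl hfa
  obtain ⟨g₂, hg₂L, hg₂, hg₂f⟩ := full_off_center h2 hs hs1 ha'c ha'H f hf Q hQf hQa'
  have hPQ : (g₂ * g₁) • P = Q := by rw [mul_smul, hg₁P, hg₂f]
  refine ⟨g₂ * g₁, mul_mem hg₂L hg₁L, axial_central hH (fun x hx => ?_) (fun x hx => ?_) hP ?_ hc,
    hPQ⟩
  · rw [mul_smul, hg₁.1 x hx, hg₂.1 x hx]
  · refine mul_free hH ha'H haH ha'a hg₂ hg₁ (fun e => hfP ?_) hx
    rw [← hg₁P, e, one_smul]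
  · have hcP : c ≠ P := fun e => hP (e ▸ hc)
    rw [hPQ, D.eq_of_mem hcP (D.right_mem hcP) hQ (Ne.symm hQP)]
    exact D.left_mem hcP

/-- A hyperplane all of whose centres are full. -/
structure IsAxis (D : Data G X) (H : Set X) : Prop where
  hyp : D.IsHyp H
  full : ∀ γ ∈ H, Full D γ H

theorem fixSet_isAxis [Finite X] (h2 : TwoTrans G X) {b : X} {s : G} (hs : s ∈ D.T b)
    (hs1 : s ≠ 1) : IsAxis D (fixSet s) :=
  ⟨D.fixSet_isHyp hs hs1, fun _ hc => full_axis h2 hs hs1 hc⟩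

theorem exists_elt {a b : X} (hab : a ≠ b) : ∃ t ∈ D.T a, t ≠ 1 ∧ t • b ≠ b := by
  obtain ⟨c, hc, hca, hcb⟩ := D.thick hab
  obtain ⟨t, ht, htb⟩ := D.trans hab.symm hc hca
  exact ⟨t, ht, fun e => hcb (by rw [← htb, e, one_smul]), fun e => hcb (htb ▸ e)⟩

theorem exists_axis [Finite X] (h2 : TwoTrans G X) : ∃ H, IsAxis D H := by
  obtain ⟨a, b, -, hab, -⟩ := D.noncollinear
  obtain ⟨t, ht, ht1, -⟩ := exists_elt (D := D) hab
  exact ⟨_, fixSet_isAxis h2 ht ht1⟩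

/-- Every elation with a full axis lies in the generated group. -/
theorem IsAxis.mem_tGrp (hA : IsAxis D H) (hγ : γ ∈ H) {g : G} (hg : D.IsEl γ H g) :
    g ∈ D.tGrp := by
  obtain ⟨P, hP⟩ := hA.hyp.proper
  have hPγ : P ≠ γ := fun e => hP (e ▸ hγ)
  obtain ⟨g', hg'L, hg', e⟩ := hA.full γ hγ P hP _ (hg.2 P hPγ) (hg.ne hγ hPγ)
  rwa [hg.ext hA.hyp hγ hg' hP e.symm]

/-- The translation group of an axis. -/
def IsAxis.trGrp (hA : IsAxis D H) : Subgroup G where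
  carrier := {g | ∃ γ ∈ H, D.IsEl γ H g}
  one_mem' := by
    obtain ⟨a, b, -, hab, -⟩ := D.noncollinear
    obtain ⟨x, -, hx⟩ := hA.hyp.meets hab
    exact ⟨x, hx, IsEl.one⟩
  inv_mem' := by rintro g ⟨γ, hγ, hg⟩; exact ⟨γ, hγ, hg.inv hγ⟩
  mul_mem' := by
    rintro g h ⟨γ, hγ, hg⟩ ⟨δ, hδ, hh⟩
    by_cases hne : γ = δ
    · exact ⟨γ, hγ, hg.mul hγ (hne ▸ hh)⟩
    by_cases hh1 : h = 1
    · exact ⟨γ, hγ, by rwa [hh1, mul_one]⟩
    obtain ⟨P, hP⟩ := hA.hyp.proper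
    have hfree := fun x (hx : x ∉ H) => mul_free hA.hyp hγ hδ hne hg hh hh1 hx
    obtain ⟨b, hb, hbH⟩ := hA.hyp.meets (hfree P hP).symm
    exact ⟨b, hbH, axial_central hA.hyp (fun x hx => by rw [mul_smul, hh.1 x hx, hg.1 x hx])
      hfree hP hb hbH⟩

theorem IsAxis.mem_trGrp (hA : IsAxis D H) {g : G} :
    g ∈ hA.trGrp ↔ ∃ γ ∈ H, D.IsEl γ H g := Iff.rfl

theorem IsAxis.tr_fix (hA : IsAxis D H) {g : G} (hg : g ∈ hA.trGrp) {x : X} (hx : x ∈ H) :
    g • x = x := by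
  obtain ⟨γ, -, h⟩ := hg; exact h.1 x hx

theorem IsAxis.tr_free (hA : IsAxis D H) {g : G} (hg : g ∈ hA.trGrp) {x : X} (hx : x ∉ H)
    (h : g • x = x) : g = 1 := by
  obtain ⟨γ, hγ, hg⟩ := hg; exact hg.eq_one hA.hyp hγ hx h

theorem IsAxis.tr_ext (hA : IsAxis D H) {g g' : G} (hg : g ∈ hA.trGrp) (hg' : g' ∈ hA.trGrp)
    {x : X} (hx : x ∉ H) (h : g • x = g' • x) : g = g' :=
  (inv_mul_eq_one.1 (hA.tr_free (mul_mem (inv_mem hg') hg) hx
    (by rw [mul_smul, h, inv_smul_smul]))).symm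

theorem IsAxis.exists_ne_one (hA : IsAxis D H) (hγ : γ ∈ H) : ∃ g, D.IsEl γ H g ∧ g ≠ 1 := by
  obtain ⟨P, hP⟩ := hA.hyp.proper
  have hγP : γ ≠ P := fun e => hP (e ▸ hγ)
  obtain ⟨Q, hQ, hQγ, hQP⟩ := D.thick hγP
  obtain ⟨g, -, hg, hgP⟩ := hA.full γ hγ P hP Q hQ hQγ
  exact ⟨g, hg, fun e => hQP (by rw [← hgP, e, one_smul])⟩

theorem IsAxis.tr_trans (hA : IsAxis D H) {P Q : X} (hP : P ∉ H) (hQ : Q ∉ H) :
    ∃ g ∈ hA.trGrp, g • P = Q := by
  by_cases h : Q = P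
  · exact ⟨1, one_mem _, by rw [one_smul, h]⟩
  obtain ⟨γ, hγl, hγ⟩ := hA.hyp.meets (Ne.symm h)
  have hγP : γ ≠ P := fun e => hP (e ▸ hγ)
  obtain ⟨g, -, hg, hgP⟩ := hA.full γ hγ P hP Q
    ((D.eq_of_mem (Ne.symm h) hγl (D.left_mem (Ne.symm h)) hγP).symm ▸ D.right_mem (Ne.symm h))
    (fun e => hQ (e ▸ hγ))
  exact ⟨g, ⟨γ, hγ, hg⟩, hgP⟩

theorem IsAxis.comm_of_ne (hA : IsAxis D H) (hγ : γ ∈ H) (hδ : δ ∈ H) (hne : γ ≠ δ) {g h : G}
    (hg : D.IsEl γ H g) (hh : D.IsEl δ H h) : g * h = h * g := by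
  have h1 : D.IsEl δ H (g * h * g⁻¹ * h⁻¹) := (hh.conj hg.1 hδ).mul hδ (hh.inv hδ)
  have h2 : D.IsEl γ H (g * h * g⁻¹ * h⁻¹) := by
    have := hg.mul hγ ((hg.inv hγ).conj hh.1 hγ)
    rwa [← mul_assoc, ← mul_assoc] at this
  have := D.eq_one_of_two_centres hne h2.2 h1.2
  rwa [mul_inv_eq_one, mul_inv_eq_iff_eq_mul] at this

theorem IsAxis.tr_comm (hA : IsAxis D H) {g h : G} (hg : g ∈ hA.trGrp) (hh : h ∈ hA.trGrp) :
    g * h = h * g := by
  obtain ⟨γ, hγ, hg⟩ := hg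
  obtain ⟨δ, hδ, hh⟩ := hh
  by_cases hne : γ = δ
  swap
  · exact hA.comm_of_ne hγ hδ hne hg hh
  subst hne
  obtain ⟨a, ha, haγ⟩ := hA.hyp.exists_ne γ
  obtain ⟨k, hk, hk1⟩ := hA.exists_ne_one ha
  obtain ⟨ε, hε, hm⟩ := (mul_mem (show h ∈ hA.trGrp from ⟨γ, hγ, hh⟩) ⟨a, ha, hk⟩ :
    h * k ∈ hA.trGrp)
  have hεγ : ε ≠ γ := by
    rintro rfl
    have : D.IsEl ε H k := by simpa [← mul_assoc] using (hh.inv hγ).mul hγ hm
    exact haγ (hk.center_eq hA.hyp ha hγ this hk1)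
  have c1 := hA.comm_of_ne hγ hε hεγ.symm hg hm
  have c2 := hA.comm_of_ne hγ ha haγ.symm hg hk
  apply mul_right_cancel (b := k)
  rw [mul_assoc g h k, c1, mul_assoc h k g, ← c2, mul_assoc]

end Data

end Cfsg.Agent.ONanGeom
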