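import Cfsg.Agent.Lib.ONanGeom.Affine

/-!
Coordinates when the axis is a line: the geometry is a projective plane with a 2-transitive group,
hence Desarguesian by the Ostrom-Wagner theorem.
-/

set_option autoImplicit false
set_option linter.unusedSectionVars false

namespace Cfsg.Agent.ONanGeom

open scoped LinearAlgebra.Projectivization Pointwise
open Configuration

universe uG uX

variable {G : Type uG} {X : Type uX} [Group G] [MulAction G X]

namespace Data

variable (D : Data G X)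

theorem smul_ln (g : G) {a b : X} (h : a ≠ b) : g • D.ln a b = D.ln (g • a) (g • b) := by
  ext x
  rw [Set.mem_smul_set_iff_inv_smul_mem]
  constructor
  · intro hx
    have := D.smul_mem g h hx
    rwa [smul_inv_smul] at this
  · intro hx
    exact D.mem_smul g h (by rwa [smul_inv_smul])

/-- The lines, as a type. -/
@[ext]
structure Line where
  /-- the points -/
  set : Set X
  isLine : ∃ a b : X, a ≠ b ∧ set = D.ln a b

instance instMemLine : Membership X D.Line := ⟨fun l x => x ∈ l.set⟩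

theorem mem_line {x : X} {l : D.Line} : x ∈ l ↔ x ∈ l.set := Iff.rfl

instance instSMulLine : SMul G D.Line :=
  ⟨fun g l => ⟨g • l.set, by
    obtain ⟨a, b, hab, e⟩ := l.isLine
    exact ⟨g • a, g • b, ONanGeom.smul_ne g hab, by rw [e, D.smul_ln g hab]⟩⟩⟩

theorem smul_line_set (g : G) (l : D.Line) : (g • l).set = g • l.set := rfl

instance instMulActionLine : MulAction G D.Line where
  one_smul l := Line.ext (one_smul G l.set)
  mul_smul g h l := Line.ext (mul_smul g h l.set)

instance instIsCollLine : OstromWagner.IsColl G X D.Line :=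
  ⟨fun _ _ _ => Set.smul_mem_smul_set_iff⟩

instance instFiniteLine [Finite X] : Finite D.Line :=
  Finite.of_injective (fun l : D.Line => l.set) fun _ _ h => Line.ext h

variable {D} {H : Set X} [FaithfulSMul G X]

/-- Coordinates when the axis lies in a line. -/
theorem coordinatised_of_line [Finite G] [Finite X] (h2 : TwoTrans G X) (hA : IsAxis D H)
    {a b : X} (ha : a ∈ H) (hb : b ∈ H) (hab : a ≠ b) (hl : ∀ c ∈ H, c ∈ D.ln a b) :
    Coordinatised D := by
  classical
  have hH : H = D.ln a b := Set.ext fun x => ⟨hl x, hA.hyp.sub a ha b hb hab x⟩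
  have hmeet : ∀ p q r s : X, p ≠ q → r ≠ s → ∃ x ∈ D.ln p q, x ∈ D.ln r s := by
    intro p q r s hpq hrs
    obtain ⟨g, hga, hgb⟩ := h2 a b r s hab hrs
    obtain ⟨x, hx, hxH⟩ := hA.hyp.meets (ONanGeom.smul_ne g⁻¹ hpq)
    refine ⟨g • x, D.mem_smul g⁻¹ hpq (by rwa [inv_smul_smul]), ?_⟩
    have := D.smul_mem g hab (hH ▸ hxH)
    rwa [hga, hgb] at this
  obtain ⟨a₀, b₀, c₀, hab₀, hc₀⟩ := D.noncollinear
  let mk : ∀ p q : X, p ≠ q → D.Line := fun p q h => ⟨D.ln p q, p, q, h, rfl⟩
  have hoff : ∀ l : D.Line, ∃ p, p ∉ l := fun l => by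
    obtain ⟨p, q, hpq, e⟩ := l.isLine
    obtain ⟨c, hc⟩ := D.exists_not_mem hpq
    exact ⟨c, fun hcl => hc (e ▸ hcl)⟩
  have hlines : ∀ p : X, ∃ l : D.Line, p ∉ l := by
    intro p
    by_cases hp : p ∈ D.ln a₀ b₀
    swap
    · exact ⟨mk _ _ hab₀, hp⟩
    obtain ⟨q, hq, hqp⟩ : ∃ q ∈ D.ln a₀ b₀, q ≠ p := by
      by_cases h : a₀ = p
      · exact ⟨b₀, D.right_mem hab₀, fun e => hab₀ (h.trans e.symm)⟩
      · exact ⟨a₀, D.left_mem hab₀, h⟩
    exact ⟨mk q c₀ fun e => hc₀ (e ▸ hq),
      fun hp' => D.not_mem_ln hab₀ hc₀ hq p hp hqp.symm hp'⟩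
  let : Nondegenerate X D.Line :=
    { exists_point := hoff
      exists_line := hlines
      eq_or_eq := fun {p₁ p₂ l₁ l₂} h11 h21 h12 h22 => by
        refine or_iff_not_imp_left.2 fun hne => Line.ext ?_
        obtain ⟨u, v, huv, e⟩ := l₁.isLine
        obtain ⟨u', v', huv', e'⟩ := l₂.isLine
        rw [mem_line] at h11 h21 h12 h22
        rw [e] at h11 h21
        rw [e'] at h12 h22
        rw [e, e']
        exact D.line_eq huv huv' hne h11 h21 h12 h22 }
  have hpts : ∀ l₁ l₂ : D.Line, ∃ p, p ∈ l₁ ∧ p ∈ l₂ := by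
    intro l₁ l₂
    obtain ⟨u, v, huv, e⟩ := l₁.isLine
    obtain ⟨u', v', huv', e'⟩ := l₂.isLine
    obtain ⟨x, hx, hx'⟩ := hmeet u v u' v' huv huv'
    exact ⟨x, by rw [mem_line, e]; exact hx, by rw [mem_line, e']; exact hx'⟩
  let : ProjectivePlane X D.Line :=
    { this with
      mkPoint := fun {l₁ l₂} _ => (hpts l₁ l₂).choose
      mkPoint_ax := fun {l₁ l₂} _ => (hpts l₁ l₂).choose_spec
      mkLine := fun {p q} h => mk p q h
      mkLine_ax := fun {p q} h => ⟨D.left_mem h, D.right_mem h⟩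
      exists_config := by
        obtain ⟨d, hd, hda, hdb⟩ := D.thick hab₀
        have hac : a₀ ≠ c₀ := fun e => hc₀ (e ▸ D.left_mem hab₀)
        have hbc : b₀ ≠ c₀ := fun e => hc₀ (e ▸ D.right_mem hab₀)
        obtain ⟨w, hw, hwb, hwc⟩ := D.thick hbc
        have hbac : b₀ ∉ D.ln a₀ c₀ :=
          D.not_mem_ln hab₀ hc₀ (D.left_mem hab₀) b₀ (D.right_mem hab₀) hab₀.symm
        have habc : a₀ ∉ D.ln b₀ c₀ :=
          D.not_mem_ln hab₀ hc₀ (D.right_mem hab₀) a₀ (D.left_mem hab₀) hab₀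
        have hdc : d ≠ c₀ := fun e => hc₀ (e ▸ hd)
        refine ⟨w, a₀, b₀, mk d c₀ hdc, mk a₀ b₀ hab₀, mk a₀ c₀ hac, fun h => hc₀ ?_,
          fun h => hbac ?_, fun h => D.not_mem_ln hab₀ hc₀ hd a₀ (D.left_mem hab₀) hda.symm h,
          D.left_mem hab₀, D.left_mem hac,
          fun h => D.not_mem_ln hab₀ hc₀ hd b₀ (D.right_mem hab₀) hdb.symm h,
          D.right_mem hab₀, hbac⟩
        · rw [D.line_eq hab₀ hbc hwb h (D.right_mem hab₀) hw (D.left_mem hbc)]
          exact D.right_mem hbc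
        · rw [D.line_eq hac hbc hwc h (D.right_mem hac) hw (D.right_mem hbc)]
          exact D.left_mem hbc }
  have hf : OstromWagner.Faith G X := fun g hg =>
    eq_of_smul_eq_smul fun x : X => by rw [one_smul]; exact hg x
  obtain ⟨F, iF, iFin, φ, h1, -⟩ := OstromWagner.desarguesian (L := D.Line) hf h2
  refine ⟨F, iF, iFin, 3, φ, le_rfl, fun p q x hpq => ?_⟩
  obtain ⟨W, hW2, hW⟩ := h1 (mk p q hpq)
  refine (hW x).trans ?_
  suffices e : (φ p).submodule ⊔ (φ q).submodule = W by rw [e]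
  refine Submodule.eq_of_le_of_finrank_le
    (sup_le ((hW p).1 (D.left_mem hpq)) ((hW q).1 (D.right_mem hpq))) ?_
  rw [hW2]
  have hlt : (φ p).submodule < (φ p).submodule ⊔ (φ q).submodule := by
    refine lt_of_le_of_ne le_sup_left fun e => hpq (φ.injective ?_)
    refine (Projectivization.submodule_injective (Submodule.eq_of_le_of_finrank_eq ?_ ?_)).symm
    · exact e.symm ▸ le_sup_right
    · rw [Projectivization.finrank_submodule, Projectivization.finrank_submodule]
  have := Submodule.finrank_lt_finrank_of_lt hlt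
  rw [Projectivization.finrank_submodule] at this
  omega

/-- Every such geometry can be coordinatised. -/
theorem coordinatised [Finite G] [Finite X] (h2 : TwoTrans G X) (D : Data G X) :
    Coordinatised D := by
  obtain ⟨H, hA⟩ := exists_axis (D := D) h2
  by_cases h : ∀ a ∈ H, ∀ b ∈ H, a ≠ b → ∃ c ∈ H, c ∉ D.ln a b
  · exact coordinatised_of_room hA h
  · push Not at h
    obtain ⟨a, ha, b, hb, hab, hl⟩ := h
    exact coordinatised_of_line h2 hA ha hb hab hl

end Data

end Cfsg.Agent.ONanGeom
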