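import Cfsg.Agent.Lib.ONanGeom.Data

/-!
Incidence lemmas, hyperplanes and the fixed sets of elations.
-/

set_option autoImplicit false

namespace Cfsg.Agent.ONanGeom

universe uG uX

variable {G : Type uG} {X : Type uX} [Group G] [MulAction G X]

theorem smul_ne (g : G) {a b : X} (h : a ≠ b) : g • a ≠ g • b := fun e =>
  h (MulAction.injective g e)

namespace Data

variable (D : Data G X)

theorem ln_comm {a b : X} (h : a ≠ b) : D.ln b a = D.ln a b :=
  D.eq_of_mem h (D.right_mem h) (D.left_mem h) h.symm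

theorem ln_left {a b x : X} (h : a ≠ b) (hx : x ∈ D.ln a b) (hxa : a ≠ x) :
    D.ln a x = D.ln a b :=
  D.eq_of_mem h (D.left_mem h) hx hxa

theorem ln_right {a b x : X} (h : a ≠ b) (hx : x ∈ D.ln a b) (hxb : x ≠ b) :
    D.ln x b = D.ln a b :=
  D.eq_of_mem h hx (D.right_mem h) hxb

/-- Two lines with two common points are equal. -/
theorem line_eq {a b c d p q : X} (hab : a ≠ b) (hcd : c ≠ d) (hpq : p ≠ q) (hp : p ∈ D.ln a b)
    (hq : q ∈ D.ln a b) (hp' : p ∈ D.ln c d) (hq' : q ∈ D.ln c d) : D.ln a b = D.ln c d :=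
  (D.eq_of_mem hab hp hq hpq).symm.trans (D.eq_of_mem hcd hp' hq' hpq)

/-- Two different lines have at most one common point. -/
theorem meet_unique {a b c d p q : X} (hab : a ≠ b) (hcd : c ≠ d) (h : D.ln a b ≠ D.ln c d)
    (hp : p ∈ D.ln a b) (hp' : p ∈ D.ln c d) (hq : q ∈ D.ln a b) (hq' : q ∈ D.ln c d) : p = q :=
  by_contra fun hne => h (D.line_eq hab hcd hne hp hq hp' hq')

/-- A point off a line is not equal to a point of it and spans lines off it. -/
theorem not_mem_ln {a b c : X} (hab : a ≠ b) (hc : c ∉ D.ln a b) {x : X} (hx : x ∈ D.ln a b) :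
    ∀ y ∈ D.ln a b, y ≠ x → y ∉ D.ln x c := by
  intro y hy hyx hmem
  have hxc : x ≠ c := fun e => hc (e ▸ hx)
  exact hc (D.line_eq hab hxc hyx hy hx hmem (D.left_mem hxc) ▸ D.right_mem hxc)

theorem mem_smul (g : G) {a b x : X} (h : a ≠ b) (hx : g • x ∈ D.ln (g • a) (g • b)) :
    x ∈ D.ln a b := by
  have := D.smul_mem g⁻¹ (ONanGeom.smul_ne g h) hx
  rwa [inv_smul_smul, inv_smul_smul, inv_smul_smul] at this

/-- Every point has a point off any line. -/
theorem exists_not_mem {a b : X} (hab : a ≠ b) : ∃ c, c ∉ D.ln a b := by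
  by_contra hall
  push Not at hall
  obtain ⟨u, v, w, huv, hw⟩ := D.noncollinear
  exact hw ((D.eq_of_mem hab (hall u) (hall v) huv) ▸ hall w)

/-- A set containing the line through any two of its points. -/
def IsSub (S : Set X) : Prop :=
  ∀ a ∈ S, ∀ b ∈ S, a ≠ b → ∀ x ∈ D.ln a b, x ∈ S

/-- A proper subspace meeting every line. -/
structure IsHyp (H : Set X) : Prop where
  sub : D.IsSub H
  meets : ∀ {a b : X}, a ≠ b → ∃ x ∈ D.ln a b, x ∈ H
  proper : ∃ x, x ∉ H

variable {D}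

/-- A line leaving a hyperplane meets it only once. -/
theorem IsHyp.eq_meet {H : Set X} (hH : D.IsHyp H) {a b p q x : X} (hab : a ≠ b)
    (hx : x ∈ D.ln a b) (hxH : x ∉ H) (hp : p ∈ D.ln a b) (hpH : p ∈ H) (hq : q ∈ D.ln a b)
    (hqH : q ∈ H) : p = q :=
  by_contra fun hne => hxH (hH.sub p hpH q hqH hne x ((D.eq_of_mem hab hp hq hne).symm ▸ hx))

/-- Points off a hyperplane and off a line exist. -/
theorem IsHyp.exists_off {H : Set X} (hH : D.IsHyp H) {a b : X} (hab : a ≠ b) :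
    ∃ w, w ∉ H ∧ w ∉ D.ln a b := by
  obtain ⟨P, hP⟩ := hH.proper
  by_cases hPl : P ∈ D.ln a b
  swap
  · exact ⟨P, hP, hPl⟩
  obtain ⟨c, hc⟩ := D.exists_not_mem hab
  by_cases hcH : c ∈ H
  swap
  · exact ⟨c, hcH, hc⟩
  have hcP : c ≠ P := fun e => hP (e ▸ hcH)
  obtain ⟨w, hw, hwc, hwP⟩ := D.thick hcP
  refine ⟨w, fun h => hP ?_, fun h => hc ?_⟩
  · exact hH.sub c hcH w h hwc.symm P ((D.ln_left hcP hw hwc.symm).symm ▸ D.right_mem hcP)
  · exact D.line_eq hab hcP hwP h hPl hw (D.right_mem hcP) ▸ D.left_mem hcP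

/-- A hyperplane contains a point other than a given one. -/
theorem IsHyp.exists_ne {H : Set X} (hH : D.IsHyp H) (b : X) : ∃ a ∈ H, a ≠ b := by
  obtain ⟨u, v, w, huv, hw⟩ := D.noncollinear
  by_cases hb : b ∈ D.ln u v
  · obtain ⟨q, hq, hqb⟩ : ∃ q ∈ D.ln u v, q ≠ b := by
      by_cases h : u = b
      · exact ⟨v, D.right_mem huv, fun e => huv (h.trans e.symm)⟩
      · exact ⟨u, D.left_mem huv, h⟩
    have hqw : q ≠ w := fun e => hw (e ▸ hq)
    obtain ⟨x, hx, hxH⟩ := hH.meets hqw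
    exact ⟨x, hxH, fun e => D.not_mem_ln huv hw hq b hb hqb.symm (e ▸ hx)⟩
  · obtain ⟨x, hx, hxH⟩ := hH.meets huv
    exact ⟨x, hxH, fun e => hb (e ▸ hx)⟩

variable (D)

/-- The fixed set of an element. -/
def fixSet (g : G) : Set X := {x | g • x = x}

theorem mem_fixSet {g : G} {x : X} : x ∈ fixSet g ↔ g • x = x := Iff.rfl

/-- An elation maps a line through two fixed points pointwise to itself. -/
theorem fix_between {a b c : X} {t : G} (ht : t ∈ D.T a) (hbc : b ≠ c) (hb : t • b = b)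
    (hc : t • c = c) {x : X} (hx : x ∈ D.ln b c) : t • x = x := by
  by_cases ha : a ∈ D.ln b c
  · by_cases hab : a = b
    · exact D.fix_line ht (hab ▸ hbc.symm) hc (hab.symm ▸ hx)
    · exact D.fix_line ht (Ne.symm hab) hb
        ((D.eq_of_mem hbc ha (D.left_mem hbc) hab).symm ▸ hx)
  · by_cases hxa : x = a
    · exact absurd (hxa ▸ hx) ha
    · have h1 := D.central ht hxa
      have h2 : t • x ∈ D.ln b c := by
        have := D.smul_mem t hbc hx
        rwa [hb, hc] at this
      exact (D.meet_unique (Ne.symm hxa) hbc (fun e => ha (e ▸ D.left_mem (Ne.symm hxa))) h1 h2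
        (D.right_mem (Ne.symm hxa)) hx)

theorem fixSet_isSub {a : X} {t : G} (ht : t ∈ D.T a) : D.IsSub (fixSet t) :=
  fun _ hb _ hc hbc _ hx => D.fix_between ht hbc hb hc hx

theorem fixSet_isHyp [FaithfulSMul G X] {a : X} {t : G} (ht : t ∈ D.T a) (ht1 : t ≠ 1) :
    D.IsHyp (fixSet t) where
  sub := D.fixSet_isSub ht
  meets h := D.axis ht h
  proper := by
    by_contra hall
    push Not at hall
    exact ht1 (eq_of_smul_eq_smul fun x : X => by rw [one_smul]; exact hall x)

/-- An element fixing all lines through two centres is trivial. -/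
theorem eq_one_of_two_centres [FaithfulSMul G X] {a b : X} (hab : a ≠ b) {g : G}
    (ha : ∀ x, x ≠ a → g • x ∈ D.ln a x) (hb : ∀ x, x ≠ b → g • x ∈ D.ln b x) : g = 1 := by
  have off : ∀ x, x ∉ D.ln a b → g • x = x := by
    intro x hx
    have hxa : x ≠ a := fun e => hx (by rw [e]; exact D.left_mem hab)
    have hxb : x ≠ b := fun e => hx (by rw [e]; exact D.right_mem hab)
    refine D.meet_unique hxa.symm hxb.symm (fun e => hx ?_) (ha x hxa) (hb x hxb)
      (D.right_mem hxa.symm) (D.right_mem hxb.symm)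
    have hbl : b ∈ D.ln a x := e.symm ▸ D.left_mem hxb.symm
    exact (D.ln_left hxa.symm hbl hab).symm ▸ D.right_mem hxa.symm
  refine eq_of_smul_eq_smul fun x : X => ?_
  rw [one_smul]
  by_cases hx : x ∈ D.ln a b
  swap
  · exact off x hx
  obtain ⟨c, hc⟩ := D.exists_not_mem hab
  obtain ⟨y, hy, hyx⟩ : ∃ y ∈ D.ln a b, y ≠ x := by
    by_cases h : a = x
    · exact ⟨b, D.right_mem hab, fun e => hab (h.trans e.symm)⟩
    · exact ⟨a, D.left_mem hab, h⟩
  -- two lines through `x` with fixed points off `a b`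
  have hxc : x ≠ c := fun e => hc (e ▸ hx)
  obtain ⟨d, hd, hdx, hdc⟩ := D.thick hxc
  have hdl : d ∉ D.ln a b := fun h => hc (by
    rw [D.line_eq hab hxc hdx h hx hd (D.left_mem hxc)]; exact D.right_mem hxc)
  have h1 : g • x ∈ D.ln c d := by
    have hx' : x ∈ D.ln c d := (D.eq_of_mem hxc (D.right_mem hxc) hd hdc.symm).symm ▸ D.left_mem hxc
    have := D.smul_mem g hdc.symm hx'
    rwa [off c hc, off d hdl] at this
  have hzx : g • x ∈ D.ln a b := by
    by_cases h : x = a
    · subst h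
      have := hb x hab
      rwa [D.ln_comm hab] at this
    · have := ha x h
      rwa [D.ln_left hab hx (Ne.symm h)] at this
  have hx' : x ∈ D.ln c d := (D.eq_of_mem hxc (D.right_mem hxc) hd hdc.symm).symm ▸ D.left_mem hxc
  exact D.meet_unique hdc.symm hab (fun e => hc (e ▸ D.left_mem hdc.symm)) h1 hzx hx' hx

end Data

end Cfsg.Agent.ONanGeom
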